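import Mathlib.AlgebraicGeometry.Stalk
import Mathlib.AlgebraicGeometry.AffineScheme
import Mathlib.AlgebraicGeometry.Properties
import Mathlib.Topology.JacobsonSpace
import Mathlib.Topology.KrullDimension
import Mathlib.RingTheory.Spectrum.Prime.Topology
import Mathlib.RingTheory.KrullDimension.Basic

/-! # Dimension of irreducible Jacobson schemes at closed points -/

universe u

open CategoryTheory CategoryTheory.Limits AlgebraicGeometry TopologicalSpace Topology

set_option autoImplicit false
set_option linter.style.haveILetI false
set_option backward.isDefEq.respectTransparency.types false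
set_option backward.isDefEq.respectTransparency false

namespace Groth.L12.FrobLift

variable {X : Scheme.{u}}

theorem exists_stalkPrime (x ξ : X) (h : ξ ⤳ x) :
    ∃ P : PrimeSpectrum (X.presheaf.stalk x), X.fromSpecStalk x P = ξ := by
  obtain ⟨P, hP⟩ : ξ ∈ Set.range (X.fromSpecStalk x) := by rw [Scheme.range_fromSpecStalk]; exact h
  exact ⟨P, hP⟩


/-- The dimension of an irreducible Jacobson scheme is read off at the closed points. -/
theorem dim_eq_closedPts [IrreducibleSpace X] [JacobsonSpace X] (c : WithBot ℕ∞)
    (hc : ∀ x : X, IsClosed ({x} : Set X) → ringKrullDim (X.presheaf.stalk x) = c) :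
    topologicalKrullDim (X : Type u) = c := by
  have hpts : ∀ Z : Set X, IsClosed Z → Z.Nonempty → ∃ x ∈ Z, IsClosed ({x} : Set X) := fun Z hZ hne => by
    obtain ⟨x, hx, hxc⟩ := nonempty_inter_closedPoints hne hZ.isLocallyClosed
    exact ⟨x, hx, hxc⟩
  refine le_antisymm (iSup_le fun s => ?_) ?_
  · obtain ⟨x, hx, hxc⟩ := hpts _ s.head.isClosed s.head.isIrreducible.nonempty
    rw [← hc x hxc]
    have hg : ∀ i, ∃ P : PrimeSpectrum (X.presheaf.stalk x),
        X.fromSpecStalk x P = (s i).isIrreducible.genericPoint := fun i => by
      refine exists_stalkPrime x _ ?_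
      have h := (s i).isIrreducible.isGenericPoint_genericPoint_closure
      rw [(s i).isClosed.closure_eq] at h
      exact h.specializes ((s.strictMono.monotone (Fin.zero_le i) : s.head ≤ s i) hx)
    choose P hP using hg
    refine Order.LTSeries.length_le_krullDim (LTSeries.mk s.length (fun i => P (Fin.rev i)) ?_)
    intro i j hij
    have hlt : s (Fin.rev j) < s (Fin.rev i) := s.strictMono (Fin.rev_lt_rev.mpr hij)
    have hi := (s (Fin.rev i)).isIrreducible.isGenericPoint_genericPoint_closure
    have hj := (s (Fin.rev j)).isIrreducible.isGenericPoint_genericPoint_closure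
    rw [(s _).isClosed.closure_eq, ← hP] at hi hj
    refine lt_of_le_of_ne ?_ fun he => hlt.ne' ?_
    · refine (PrimeSpectrum.le_iff_specializes _ _).mpr ?_
      exact (X.fromSpecStalk x).isEmbedding.isInducing.specializes_iff.mp (hi.specializes (hlt.le hj.mem))
    · refine SetLike.coe_injective ?_
      change P (Fin.rev i) = P (Fin.rev j) at he
      rw [← hi.def, he, hj.def]
  · obtain ⟨x, -, hxc⟩ := hpts Set.univ isClosed_univ Set.univ_nonempty
    rw [← hc x hxc, ← PrimeSpectrum.topologicalKrullDim_eq_ringKrullDim]
    exact (X.fromSpecStalk x).isEmbedding.isInducing.topologicalKrullDim_le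

end Groth.L12.FrobLift
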