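import Groth.Agent.L12.FrobJac
import Groth.Agent.L19.OmegaSh.OmAff
import Groth.Agent.L22.CurveDeg.Det.ExtPow
import Groth.Agent.L12.FrobLift.Dim
import Groth.Agent.L21.Smooth.EtaleRegular
import Groth.Agent.S11311
import Mathlib.RingTheory.Smooth.StandardSmoothCotangent
import Mathlib.RingTheory.Etale.Kaehler
import Mathlib.RingTheory.Kaehler.TensorProduct
import Mathlib.RingTheory.Localization.Free
import Mathlib.RingTheory.Nullstellensatz
import Mathlib.RingTheory.Ideal.KrullsHeightTheorem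
import Mathlib.AlgebraicGeometry.Morphisms.Etale
import Mathlib.AlgebraicGeometry.Morphisms.FiniteType

/-! # Coordinate charts of the sheaf of differentials of a smooth variety -/

set_option autoImplicit false
set_option backward.isDefEq.respectTransparency false
universe u

open CategoryTheory CategoryTheory.Limits AlgebraicGeometry TopologicalSpace
open Groth.L18.Frame (rs ro rs_rs ro_ro rs_smul ro_self rs_self)
open OmegaSh (dSect)
open Groth.L22.CurveDeg.Det (IsBasisS)
open scoped TensorProduct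

noncomputable section

namespace Groth.L12.FrobLift

variable {X : Scheme.{u}}

/-- Bases on affine opens are bases. -/
theorem isBasisS_of_affine {n : ℕ} {E : X.Modules} {U : X.Opens} (e : Fin n → Γ(E, U))
    (H : ∀ (V : X.affineOpens) (h : V.1 ≤ U),
      Function.Bijective fun r : Fin n → Γ(X, V.1) => ∑ j, r j • rs E h (e j)) : IsBasisS E e := by
  have hsum : ∀ {V W : X.Opens} (hWV : W ≤ V) (hV : V ≤ U) (r : Fin n → Γ(X, V)),
      rs E hWV (∑ j, r j • rs E hV (e j)) = ∑ j, ro hWV (r j) • rs E (hWV.trans hV) (e j) := by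
    intro V W hWV hV r
    rw [show rs E hWV (∑ j, r j • rs E hV (e j)) = ∑ j, rs E hWV (r j • rs E hV (e j)) from map_sum _ _ _]
    simp only [rs_smul, rs_rs]
  have hP : ∀ (x : X) (O : X.Opens), x ∈ O → ∃ W : X.affineOpens, True ∧ x ∈ W.1 ∧ W.1 ≤ O := fun x O hx => by
    obtain ⟨_, ⟨W, hW, rfl⟩, hxW, hWO⟩ := X.isBasis_affineOpens.exists_subset_of_mem_open hx O.2
    exact ⟨⟨W, hW⟩, trivial, hxW, hWO⟩
  intro V hVU
  constructor
  · intro r r' hr
    funext j
    have key : ∀ (W : X.affineOpens) (hWV : W.1 ≤ V),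
        (fun l => ro hWV (r l)) = fun l => ro hWV (r' l) := fun W hWV => by
      refine (H W (hWV.trans hVU)).1 ?_
      have := congrArg (rs E hWV) hr
      rwa [hsum, hsum] at this
    obtain ⟨s, -, hu⟩ := Groth.L19.OmegaSh.existsUnique_glue (Coh.structureModule X) (fun _ => True)
      hP V (fun W _ hW => ro hW (r j)) (fun W W' _ _ hZ hZ' hh => ro_ro _ _ _)
    exact (hu (r j) fun W _ hW => rfl).trans (hu (r' j) fun W _ hW => (congrFun (key W hW) j).symm).symm
  · intro s
    have hc : ∀ (W : X.affineOpens) (hW : W.1 ≤ V), ∃ r : Fin n → Γ(X, W.1),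
        ∑ j, r j • rs E (hW.trans hVU) (e j) = rs E hW s := fun W hW => (H W _).2 _
    choose r hr using hc
    have hco : ∀ (W W' : X.affineOpens) (hW : W.1 ≤ V) (hW' : W'.1 ≤ V) (hh : W'.1 ≤ W.1),
        (fun j => ro hh (r W hW j)) = r W' hW' := by
      intro W W' hW hW' hh
      refine (H W' (hW'.trans hVU)).1 ?_
      have := congrArg (rs E hh) (hr W hW)
      rw [hsum, rs_rs] at this
      exact this.trans (hr W' hW').symm
    choose t ht hu using fun j => Groth.L19.OmegaSh.existsUnique_glue (Coh.structureModule X) (fun _ => True)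
      hP V (fun W _ hW => r W hW j) (fun W W' _ _ hW hW' hh => congrFun (hco W W' hW hW' hh) j)
    refine ⟨t, ?_⟩
    obtain ⟨s', hs', hu'⟩ := Groth.L19.OmegaSh.existsUnique_glue E (fun _ => True) hP V
      (fun W _ hW => rs E hW s) (fun W W' _ _ hZ hZ' hh => rs_rs _ _ _ _)
    refine (hu' _ fun W _ hW => ?_).trans (hu' s fun W _ hW => rfl).symm
    rw [hsum, ← hr W hW]
    exact Finset.sum_congr rfl fun j _ => congrArg (· • _) (ht j W trivial hW)

variable {k : Type u} [Field k] (f : X ⟶ Spec (CommRingCat.of k))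

/-- The base ring map on an open. -/
def baseHom (U : X.Opens) : k →+* Γ(X, U) :=
  (f.appLE ⊤ U le_top).hom.comp (Scheme.ΓSpecIso (CommRingCat.of k)).inv.hom

variable [QuasiSeparated f]

/-- A `k`-linear form of the comparison isomorphism. -/
theorem exists_kEquiv {U : X.Opens} (hU : IsAffineOpen U) :
    letI := (baseHom f U).toAlgebra
    ∃ e : Ω[Γ(X, U)⁄k] ≃ₗ[Γ(X, U)] Γ(Omega.sheaf f, U),
      ∀ a, e (KaehlerDifferential.D k Γ(X, U) a) = dSect f U a := by
  letI := (baseHom f U).toAlgebra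
  let R := Γ(Spec (CommRingCat.of k), ⊤)
  have hV := isAffineOpen_top (Spec (CommRingCat.of k))
  letI : Algebra R Γ(X, U) := (f.appLE ⊤ U le_top).hom.toAlgebra
  letI : Algebra k R := (Scheme.ΓSpecIso (CommRingCat.of k)).inv.hom.toAlgebra
  haveI : IsScalarTower k R Γ(X, U) := IsScalarTower.of_algebraMap_eq' rfl
  haveI := Groth.L19.OmegaSh.isIso_toSect f ⟨U, hU⟩ ⟨⊤, hV⟩ le_top
  let e : Ω[Γ(X, U)⁄R] ≃ₗ[Γ(X, U)] Γ(Omega.sheaf f, U) :=
    (asIso (OmAff.toSect f ⊤ U le_top)).toLinearEquiv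
  have hsurj : Function.Surjective (algebraMap k R) :=
    (Scheme.ΓSpecIso (CommRingCat.of k)).commRingCatIsoToRingEquiv.symm.surjective
  have hbij : Function.Bijective (KaehlerDifferential.map k R Γ(X, U) Γ(X, U)) := by
    refine ⟨?_, KaehlerDifferential.map_surjective _ _ _⟩
    rw [injective_iff_map_eq_zero]
    intro x hx
    obtain ⟨y, rfl⟩ := (KaehlerDifferential.exact_mapBaseChange_map k R Γ(X, U) x).1 hx
    haveI : Subsingleton Ω[R⁄k] := KaehlerDifferential.subsingleton_of_surjective k R hsurj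
    rw [Subsingleton.elim y 0, map_zero]
  refine ⟨(LinearEquiv.ofBijective _ hbij).trans e, fun a => ?_⟩
  rw [LinearEquiv.trans_apply, LinearEquiv.ofBijective_apply, KaehlerDifferential.map_D]
  exact OmAff.toSect_d f ⊤ U le_top a

/-- Coordinates on an affine open give bases. -/
theorem isBasisS_dSect {U : X.Opens} (hU : IsAffineOpen U) {n : ℕ} (t : Fin n → Γ(X, U))
    (ht : letI := (baseHom f U).toAlgebra
      ∃ b : Module.Basis (Fin n) Γ(X, U) Ω[Γ(X, U)⁄k], ∀ j, b j = KaehlerDifferential.D k Γ(X, U) (t j)) :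
    IsBasisS (Omega.sheaf f) fun j => dSect f U (t j) := by
  refine isBasisS_of_affine _ fun V hVU => ?_
  letI := (baseHom f U).toAlgebra
  letI := (baseHom f V.1).toAlgebra
  obtain ⟨b, hb⟩ := ht
  letI : Algebra Γ(X, U) Γ(X, V.1) := (X.presheaf.map (homOfLE hVU).op).hom.toAlgebra
  haveI : IsScalarTower k Γ(X, U) Γ(X, V.1) := IsScalarTower.of_algebraMap_eq fun c =>
    (congr($(f.appLE_map le_top (homOfLE hVU).op) ((Scheme.ΓSpecIso (CommRingCat.of k)).inv c))).symm
  haveI : Algebra.Etale Γ(X, U) Γ(X, V.1) := by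
    have h1 := (𝟙 X : X ⟶ X).etale_appLE hU V.2 hVU
    have h2 : (𝟙 X : X ⟶ X).appLE U V.1 hVU = X.presheaf.map (homOfLE hVU).op := by
      simp [Scheme.Hom.appLE]
    rw [h2] at h1
    exact RingHom.etale_algebraMap.1 h1
  obtain ⟨e, he⟩ := exists_kEquiv f V.2
  let b' : Module.Basis (Fin n) Γ(X, V.1) Γ(Omega.sheaf f, V.1) :=
    ((b.baseChange Γ(X, V.1)).map
      (KaehlerDifferential.tensorKaehlerEquivOfFormallyEtale k Γ(X, U) Γ(X, V.1))).map e
  have hb' : ∀ j, b' j = rs (Omega.sheaf f) hVU (dSect f U (t j)) := fun j => by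
    rw [Module.Basis.map_apply, Module.Basis.map_apply, Module.Basis.baseChange_apply, hb,
      KaehlerDifferential.tensorKaehlerEquivOfFormallyEtale_apply, KaehlerDifferential.mapBaseChange_tmul,
      one_smul, KaehlerDifferential.map_D, he]
    exact OmegaSh.dSect_map f hVU (t j)
  refine (congrArg Function.Bijective (funext fun r => ?_)).mp b'.equivFun.symm.bijective
  rw [Module.Basis.equivFun_symm_apply]
  simp only [hb']

variable [Smooth f] [IsIntegral X] [IsAlgClosed k]

omit [QuasiSeparated f] [IsIntegral X] [IsAlgClosed k] in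
theorem exists_standard (x : X) :
    ∃ U : X.Opens, IsAffineOpen U ∧ x ∈ U ∧ (baseHom f U).IsStandardSmooth := by
  obtain ⟨U₀, hU₀, V, hV, hx, e, hs⟩ := Smooth.exists_isStandardSmooth f x
  have hUtop : U₀ = ⊤ := by
    ext y
    simp only [TopologicalSpace.Opens.coe_top, Set.mem_univ, iff_true]
    obtain rfl : y = f x := Subsingleton.elim (α := PrimeSpectrum k) _ _
    exact e hx
  subst hUtop
  exact ⟨V, hV, hx, RingHom.isStandardSmooth_respectsIso.2 _
    (Scheme.ΓSpecIso (CommRingCat.of k)).symm.commRingCatIsoToRingEquiv hs⟩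

omit [QuasiSeparated f] in
theorem eq_dim (d : ℕ) (hd : topologicalKrullDim X = d) {U : X.Opens} (hU : IsAffineOpen U) [Nonempty U]
    {n : ℕ} (hs : (baseHom f U).IsStandardSmooth)
    (ht : letI := (baseHom f U).toAlgebra
      Nonempty (Module.Basis (Fin n) Γ(X, U) Ω[Γ(X, U)⁄k])) : n = d := by
  haveI : LocallyOfFiniteType f := inferInstance
  haveI : JacobsonSpace X := LocallyOfFiniteType.jacobsonSpace f
  -- every standard chart has rank the dimension of the local rings at its closed points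
  have key : ∀ {U : X.Opens}, IsAffineOpen U → ∀ {n : ℕ}, (baseHom f U).IsStandardSmooth →
      (letI := (baseHom f U).toAlgebra; Nonempty (Module.Basis (Fin n) Γ(X, U) Ω[Γ(X, U)⁄k])) →
      ∀ x ∈ U, IsClosed ({x} : Set X) → ringKrullDim (X.presheaf.stalk x) = (n : WithBot ℕ∞) := by
    intro U hU n hs ht x hxU hx
    letI := (baseHom f U).toAlgebra
    haveI : Algebra.IsStandardSmooth k Γ(X, U) := hs
    obtain ⟨b⟩ := ht
    let P := hU.primeIdealOf ⟨x, hxU⟩
    haveI : P.asIdeal.IsMaximal := by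
      refine (PrimeSpectrum.isClosed_singleton_iff_isMaximal P).1 ?_
      have : ({P} : Set (PrimeSpectrum Γ(X, U))) = hU.fromSpec ⁻¹' {x} := by
        ext q
        exact ⟨fun hq => by rw [Set.mem_singleton_iff.1 hq]; exact hU.fromSpec_primeIdealOf ⟨x, hxU⟩,
          fun hq => hU.fromSpec.isOpenEmbedding.injective (hq.trans (hU.fromSpec_primeIdealOf ⟨x, hxU⟩).symm)⟩
      rw [this]
      exact hx.preimage hU.fromSpec.continuous
    let B := Localization.AtPrime P.asIdeal
    haveI : IsNoetherianRing Γ(X, U) := Algebra.FiniteType.isNoetherianRing k _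
    have hres : Function.Bijective (algebraMap k (IsLocalRing.ResidueField B)) := by
      letI := Ideal.Quotient.field P.asIdeal
      haveI : Module.Finite k (Γ(X, U) ⧸ P.asIdeal) :=
        finite_of_finite_type_of_isJacobsonRing k (Γ(X, U) ⧸ P.asIdeal)
      have h1 : Function.Bijective (algebraMap k (Γ(X, U) ⧸ P.asIdeal)) :=
        IsAlgClosed.algebraMap_bijective_of_isIntegral
      have h2 := Ideal.bijective_algebraMap_quotient_residueField P.asIdeal
      rw [IsScalarTower.algebraMap_eq k (Γ(X, U) ⧸ P.asIdeal) P.asIdeal.ResidueField]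
      exact h2.comp h1
    obtain ⟨c, hc⟩ : ∃ c : ℕ, ringKrullDim B = (c : WithBot ℕ∞) := by
      obtain ⟨c, hc⟩ := ENat.ne_top_iff_exists.1
        (Ideal.height_ne_top (I := IsLocalRing.maximalIdeal B) (IsLocalRing.maximalIdeal.isMaximal B).ne_top)
      exact ⟨c, by rw [← IsLocalRing.maximalIdeal_height_eq_ringKrullDim, ← hc]; rfl⟩
    haveI : IsRegularLocalRing B := Groth.L21.Smooth.regular_of_isStandardSmooth k _ hs P.asIdeal
    obtain ⟨-, hfr⟩ := ((Groth.Agent.S11311.result k B hres c hc).2 inferInstance inferInstance)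
    haveI := KaehlerDifferential.isLocalizedModule_map k Γ(X, U) B P.asIdeal.primeCompl
    have hn : Module.finrank B Ω[B⁄k] = n := by
      rw [Module.finrank_eq_card_basis (b.ofIsLocalizedModule B P.asIdeal.primeCompl
        (KaehlerDifferential.map k k Γ(X, U) B)), Fintype.card_fin]
    letI := X.presheaf.algebra_section_stalk ⟨x, hxU⟩
    haveI := hU.isLocalization_stalk ⟨x, hxU⟩
    rw [← ringKrullDim_eq_of_ringEquiv (IsLocalization.algEquiv P.asIdeal.primeCompl
      B (X.presheaf.stalk x)).toRingEquiv, hc, ← hfr, hn]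
  obtain ⟨x₀, hx₀⟩ := ‹Nonempty U›
  have hne : (Set.univ ∩ (U : Set X)).Nonempty := ⟨x₀, trivial, hx₀⟩
  have hall : ∀ x : X, IsClosed ({x} : Set X) → ringKrullDim (X.presheaf.stalk x) = (n : WithBot ℕ∞) := by
    intro x hx
    obtain ⟨U', hU', hxU', hs'⟩ := exists_standard f x
    letI := (baseHom f U').toAlgebra
    haveI : Algebra.IsStandardSmooth k Γ(X, U') := hs'
    obtain ⟨ι, σ, hσ, hι, ⟨P⟩⟩ := (inferInstance : Algebra.IsStandardSmooth k Γ(X, U')).out
    haveI : Finite ((Set.range P.map)ᶜ : Set ι) := inferInstance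
    let b' := P.basisKaehler.reindex (Finite.equivFin _)
    have h1 := key hU' hs' ⟨b'⟩
    obtain ⟨y, hy, hyc⟩ := nonempty_inter_closedPoints (Z := (U : Set X) ∩ (U' : Set X))
      (nonempty_preirreducible_inter U.2 U'.2 ⟨x₀, hx₀⟩ ⟨x, hxU'⟩) (U.2.inter U'.2).isLocallyClosed
    rw [h1 x hxU' hx, ← h1 y hy.2 hyc, key hU hs ht y hy.1 hyc]
  have := dim_eq_closedPts (X := X) (n : WithBot ℕ∞) hall
  rw [hd] at this
  exact_mod_cast this.symm

/-- Charts with `d` coordinates. -/
theorem exists_coords (d : ℕ) (hd : topologicalKrullDim X = d) (x : X) :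
    ∃ (U : X.affineOpens) (t : Fin d → Γ(X, U.1)), x ∈ U.1 ∧ (baseHom f U.1).IsStandardSmooth ∧
      letI := (baseHom f U.1).toAlgebra
      ∃ b : Module.Basis (Fin d) Γ(X, U.1) Ω[Γ(X, U.1)⁄k],
        ∀ j, b j = KaehlerDifferential.D k Γ(X, U.1) (t j) := by
  obtain ⟨U, hU, hxU, hs⟩ := exists_standard f x
  letI := (baseHom f U).toAlgebra
  haveI : Algebra.IsStandardSmooth k Γ(X, U) := hs
  obtain ⟨ι, σ, hσ, hι, ⟨P⟩⟩ := (inferInstance : Algebra.IsStandardSmooth k Γ(X, U)).out
  let n := Nat.card ((Set.range P.map)ᶜ : Set ι)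
  let b := P.basisKaehler.reindex (Finite.equivFin _)
  haveI : Nonempty U := ⟨⟨x, hxU⟩⟩
  obtain rfl : n = d := eq_dim f d hd hU hs ⟨b⟩
  exact ⟨⟨U, hU⟩, fun j => P.val ((Finite.equivFin _).symm j).1, hxU, hs, b, fun j => by
    rw [Module.Basis.reindex_apply, Algebra.SubmersivePresentation.basisKaehler_apply]⟩

end Groth.L12.FrobLift
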