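import Groth.Agent.L12.FrobLift.Section
import Groth.Agent.L00.TensorMod
import Mathlib.AlgebraicGeometry.Morphisms.Proper

/-! # Torsion canonical module: the divided differential is bijective -/

set_option autoImplicit false
set_option backward.isDefEq.respectTransparency false
universe u

open CategoryTheory CategoryTheory.Limits AlgebraicGeometry TopologicalSpace Opposite
open Groth.L18.Frame (rs ro rs_rs ro_ro rs_smul ro_self rs_self IsFrame isUnit_of_isFrame)
open Groth.L18.GenLoc (tens tens_rs tens_smul_left tens_smul_right isFrame_tens)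
open Groth.L22.CurveDeg.Det (IsBasisS wedge wedge_comb isFrame_wedge bijective_smul_wedge')
open OmegaSh (dSect)

noncomputable section

namespace Groth.L12.FrobLift

/-- An isomorphism onto the structure module sends frames to units. -/
theorem isUnit_app_frame {X : Scheme.{u}} {M : X.Modules} (β : M ≅ Coh.structureModule X) {U : X.Opens}
    {e : Γ(M, U)} (he : IsFrame M U e) : IsUnit (show Γ(X, U) from β.hom.app U e) := by
  obtain ⟨a, ha⟩ := he.exists_coeff le_rfl (show Γ(M, U) from β.inv.app U (1 : Γ(X, U)))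
  rw [rs_self] at ha
  refine IsUnit.of_mul_eq_one a ?_
  have h1 := congrArg (fun z => β.hom.app U z) ha
  simp only [Scheme.Modules.Hom.app_smul] at h1
  have h2 : β.hom.app U (β.inv.app U (1 : Γ(X, U))) = (1 : Γ(X, U)) := by
    rw [← CategoryTheory.comp_apply, ← Scheme.Modules.Hom.comp_app, β.inv_hom_id]
    rfl
  rw [h2] at h1
  rw [mul_comm]
  exact h1

variable {p : ℕ} [Fact p.Prime] {k : Type u} [Field k] [CharP k p] [IsAlgClosed k]
  {X : Scheme.{u}} {f : X ⟶ Spec (CommRingCat.of k)} [FrobSch.IsCharP X p] [IsProper f] [Smooth f]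
  [IsIntegral X]
  {Xl : Scheme.{u}} {g : Xl ⟶ Spec (CommRingCat.of (FrobAlg.W2 p k))}
  {i : X ⟶ Xl} {Fl : Xl ⟶ Xl}

omit [CharP k p] [Fact p.Prime] [FrobSch.IsCharP X p] [Smooth f] in
/-- A nonzero global function on a proper variety is a unit. -/
theorem isUnit_global (f : X ⟶ Spec (CommRingCat.of k)) [IsProper f] {a : Γ(X, ⊤)} (ha : a ≠ 0) : IsUnit a := by
  have hF := isField_of_universallyClosed k f
  obtain ⟨b, hb⟩ := hF.mul_inv_cancel ha
  exact IsUnit.of_mul_eq_one b hb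

theorem exists_unit_matrix (h : IsFLift p f g i Fl) (d : ℕ) (hd : topologicalKrullDim X = d)
    (W : X.Modules) (hW : ExtPow.IsExtPow d (Omega.sheaf f) W)
    (m : ℕ) (hm : 0 < m) (htors : Nonempty (CohB1.tensorPow W m ≅ Coh.structureModule X))
    (U : X.affineOpens) (t : Fin d → Γ(X, U.1))
    (hB : IsBasisS (Omega.sheaf f) fun j => dSect f U.1 (t j)) :
    ∃ S : Matrix (Fin d) (Fin d) Γ(X, U.1), IsUnit S.det ∧
      ∀ i', zeta h U (dSect f U.1 (t i')) = ∑ j, S i' j • dSect f U.1 (t j) := by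
  obtain ⟨zz, hzz, hfr, hne⟩ := exists_semi_frame d W h hd hW 1
  obtain ⟨φ, hφ⟩ := hW
  obtain ⟨zW, h1, h2, h3⟩ := exists_zetaW h d W φ hφ
  have hz : IsSemi W p zW := ⟨h1, h2⟩
  -- non-vanishing at one frame
  have hne' : ∃ (U : X.affineOpens) (t : Fin d → Γ(X, U.1)) (S : Matrix (Fin d) (Fin d) Γ(X, U.1)),
      IsBasisS (Omega.sheaf f) (fun j => dSect f U.1 (t j)) ∧ S.det ≠ 0 ∧
        ∀ i', zeta h U (dSect f U.1 (t i')) = ∑ j, S i' j • dSect f U.1 (t j) := by
    obtain ⟨U, t, hx, hs, b, hb⟩ := exists_coords f d hd (genericPoint X)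
    haveI : Nonempty U.1 := ⟨⟨_, hx⟩⟩
    letI := (baseHom f U.1).toAlgebra
    haveI : Algebra.IsStandardSmooth k Γ(X, U.1) := hs
    obtain ⟨V, hV⟩ := exists_open h U.1
    have hp := isPair h V (hV ▸ U.2)
    obtain ⟨ek, hek⟩ := exists_kEquiv f U.2
    have hlift : ∀ j, ∃ bj : Γ(Xl, V), red i hV.ge bj = t j := fun j => by
      obtain ⟨bj, hbj⟩ := hp.surj (ro hV.le (t j))
      refine ⟨bj, (ro_red (le_refl (i ⁻¹ᵁ V)) hV.ge bj).symm.trans ?_⟩
      change ro hV.ge (i.appLE V (i ⁻¹ᵁ V) le_rfl bj) = t j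
      rw [← Scheme.Hom.app_eq_appLE]
      exact (congrArg (ro hV.ge) hbj).trans ((ro_ro _ _ _).trans (ro_self _ _))
    choose T hT using hlift
    choose F hF using fun j => hp.exists_F (T j)
    refine ⟨U, t, Matrix.of fun i' j => (if i' = j then t i' ^ (p - 1) else 0) +
      b.coord j (KaehlerDifferential.D k Γ(X, U.1) (red i hV.ge (F i'))),
      isBasisS_dSect f U.2 t ⟨b, hb⟩, FrobJac.det_ne_zero p t b hb fun i' => red i hV.ge (F i'), fun i' => ?_⟩
    have hz' := (isZeta_zeta h U).map_d V hV.ge (T i') (F i') (hF i')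
    rw [hT] at hz'
    rw [hz', ← hek (red i hV.ge (F i'))]
    conv_lhs => rw [← b.sum_repr (KaehlerDifferential.D k Γ(X, U.1) (red i hV.ge (F i'))), map_sum]
    simp only [Matrix.of_apply, add_smul, Finset.sum_add_distrib, ite_smul, zero_smul,
      Finset.sum_ite_eq, Finset.mem_univ, if_true, map_smul, hb, hek, Module.Basis.coord_apply]
  have hfr' : ∀ x : X, ∃ (U : X.affineOpens) (e : Γ(W, U.1)), x ∈ U.1 ∧ IsFrame W U.1 e := hfr
  let r := (m - 1) * (p - 1)
  let N := CohB1.tensorPow W r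
  obtain ⟨τ⟩ := htors
  let β : CohB1.tensorMod N (CohB1.tensorPow W (p - 1)) ≅ Coh.structureModule X :=
    Groth.L00.Tensor.tensorPowAdd W r (p - 1) ≪≫
      eqToIso (congrArg (CohB1.tensorPow W) (show r + (p - 1) = m * (p - 1) by
        simp only [r]; rw [Nat.sub_one_mul]
        exact Nat.sub_add_cancel (Nat.le_mul_of_pos_left _ hm))) ≪≫
      (Groth.L00.Tensor.tensorPowMul W m (p - 1)).symm ≪≫ Groth.L00.Tensor.tensorPowIso τ (p - 1) ≪≫
      Groth.L00.Tensor.tensorPowUnit X (p - 1)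
  let γ : CohB1.tensorPow N m ≅ Coh.structureModule X :=
    Groth.L00.Tensor.tensorPowMul W r m ≪≫ eqToIso (congrArg (CohB1.tensorPow W) (Nat.mul_comm r m)) ≪≫
      (Groth.L00.Tensor.tensorPowMul W m r).symm ≪≫ Groth.L00.Tensor.tensorPowIso τ r ≪≫
      Groth.L00.Tensor.tensorPowUnit X r
  obtain ⟨s, hs⟩ := exists_global (q := p) (m := p - 1)
    (Nat.sub_add_cancel (Fact.out : p.Prime).one_le).symm hz hfr' β
  let G : Γ(X, ⊤) := γ.hom.app ⊤ (pf s m)
  -- the coefficient at a frame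
  have hframe : ∀ (U : X.affineOpens) (t : Fin d → Γ(X, U.1)) (S : Matrix (Fin d) (Fin d) Γ(X, U.1)),
      IsBasisS (Omega.sheaf f) (fun j => dSect f U.1 (t j)) →
      (∀ i', zeta h U (dSect f U.1 (t i')) = ∑ j, S i' j • dSect f U.1 (t j)) →
      ∃ a u v : Γ(X, U.1), IsUnit u ∧ IsUnit v ∧ S.det = a * u ∧ ro le_top G = a ^ m * v := by
    intro U t S hB hS
    let e := wedge φ U fun j => dSect f U.1 (t j)
    have he : IsFrame W U.1 e := isFrame_wedge φ hφ U _ hB
    have hze : zW U e = S.det • e := by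
      rw [h3, ← wedge_comb]
      exact congrArg _ (funext hS)
    obtain ⟨a, ha⟩ := (isFrame_pf he r).exists_coeff le_rfl (rs N (le_top : U.1 ≤ ⊤) s)
    rw [rs_self] at ha
    refine ⟨a, β.hom.app U.1 (tens N (CohB1.tensorPow W (p - 1)) U.1 (pf e r) (pf e (p - 1))),
      γ.hom.app U.1 (pf (M := N) (pf e r) m),
      isUnit_app_frame β (isFrame_tens (isFrame_pf he r) (isFrame_pf he (p - 1))),
      isUnit_app_frame γ (isFrame_pf (M := N) (isFrame_pf he r) m), ?_, ?_⟩
    · rw [← hs U e he S.det hze, ← ha, tens_smul_left, Scheme.Modules.Hom.app_smul]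
      rfl
    · have e1 : ro le_top G = γ.hom.app U.1 (rs (CohB1.tensorPow N m) le_top (pf s m)) :=
        (congr($((Scheme.Modules.Hom.mapPresheaf γ.hom).naturality (homOfLE (le_top : U.1 ≤ ⊤)).op) (pf s m))).symm
      rw [e1, pf_rs, ← ha, pf_smul, Scheme.Modules.Hom.app_smul]
      rfl
  have hG : G ≠ 0 := by
    obtain ⟨U, t, S, hB, hS0, hS⟩ := hne'
    obtain ⟨a, u, v, -, hv, hdet, hGa⟩ := hframe U t S hB hS
    intro hG0
    rw [hG0, show ro (le_top : U.1 ≤ ⊤) (0 : Γ(X, ⊤)) = 0 from map_zero _] at hGa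
    haveI : Nonempty U.1 := by
      by_contra hU
      haveI : Subsingleton Γ(X, U.1) := by
        have : U.1 = ⊥ := by
          ext x; exact ⟨fun hx => (hU ⟨⟨x, hx⟩⟩).elim, fun hx => hx.elim⟩
        rw [this]; infer_instance
      exact hS0 (Subsingleton.elim _ _)
    have ha0 : a = 0 := eq_zero_of_pow_eq_zero ((IsUnit.mul_left_eq_zero hv).1 hGa.symm)
    exact hS0 (by rw [hdet, ha0, zero_mul])
  have hGu := isUnit_global f hG
  obtain ⟨c, hc⟩ : ∃ c : Fin d → Fin d → Γ(X, U.1),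
      ∀ i', ∑ j, c i' j • dSect f U.1 (t j) = zeta h U (dSect f U.1 (t i')) := by
    have hsur := fun i' => (hB U.1 le_rfl).2 (zeta h U (dSect f U.1 (t i')))
    choose c hc using hsur
    exact ⟨c, fun i' => by simpa [rs_self] using hc i'⟩
  refine ⟨Matrix.of c, ?_, fun i' => (hc i').symm⟩
  obtain ⟨a, u, v, hu, hv, hdet, hGa⟩ := hframe U t (Matrix.of c) hB fun i' => (hc i').symm
  rw [hdet]
  refine IsUnit.mul ?_ hu
  have h4 : IsUnit (a ^ m) := by
    have h5 : IsUnit (a ^ m * v) := hGa ▸ hGu.map (X.presheaf.map (homOfLE le_top).op).hom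
    exact isUnit_of_mul_isUnit_left h5
  exact (isUnit_pow_iff hm.ne').1 h4

end Groth.L12.FrobLift
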