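import Mathlib.FieldTheory.RatFunc.Degree
import Mathlib.FieldTheory.RatFunc.AsPolynomial
import Mathlib.Algebra.Polynomial.Expand
import Mathlib.FieldTheory.IsAlgClosed.Basic
import Mathlib.Algebra.TrivSqZeroExt.Basic
import Mathlib.RingTheory.Derivation.Basic
import Mathlib.RingTheory.Valuation.ValuationSubring
import Mathlib.Algebra.CharP.Frobenius

/-! # Places and the derivative of `k(t)` -/

set_option autoImplicit false
universe u

open Polynomial
open scoped Polynomial

noncomputable section

namespace Groth.L12.FrobLift.RatK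

variable (k : Type u) [Field k]

local notation "K" => RatFunc k

/-- `x ↦ x + ε x'` on polynomials. -/
def dualHom : k[X] →+* TrivSqZeroExt K K where
  toFun q := TrivSqZeroExt.inl (algebraMap k[X] K q) + TrivSqZeroExt.inr (algebraMap k[X] K (derivative q))
  map_one' := by simp
  map_zero' := by simp
  map_add' a b := by simp only [map_add, TrivSqZeroExt.inl_add, TrivSqZeroExt.inr_add]; abel
  map_mul' a b := by
    refine TrivSqZeroExt.ext ?_ ?_
    · simp
    · simp [derivative_mul]
      ring

theorem isUnit_dualHom (q : nonZeroDivisors k[X]) : IsUnit (dualHom k q) := by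
  rw [TrivSqZeroExt.isUnit_iff_isUnit_fst, isUnit_iff_ne_zero]
  simp [dualHom]

/-- The derivative of a rational function. -/
def dd (x : K) : K := (IsLocalization.lift (S := K) (isUnit_dualHom k) x).snd

theorem fst_lift (x : K) : (IsLocalization.lift (S := K) (isUnit_dualHom k) x).fst = x := by
  have : ((TrivSqZeroExt.fstHom K K K).toRingHom).comp (IsLocalization.lift (S := K) (isUnit_dualHom k)) =
      RingHom.id K := by
    refine IsLocalization.ringHom_ext (nonZeroDivisors k[X]) (RingHom.ext fun q => ?_)
    simp [IsLocalization.lift_eq, dualHom]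
  exact congr($this x)

theorem dd_add (x y : K) : dd k (x + y) = dd k x + dd k y := by simp [dd]

theorem dd_mul (x y : K) : dd k (x * y) = x * dd k y + y * dd k x := by
  simp only [dd, map_mul, TrivSqZeroExt.snd_mul, fst_lift, smul_eq_mul, MulOpposite.smul_eq_mul_unop,
    MulOpposite.unop_op]
  ring

theorem dd_poly (q : k[X]) : dd k (algebraMap k[X] K q) = algebraMap k[X] K (derivative q) := by
  simp [dd, IsLocalization.lift_eq, dualHom]

theorem dd_algebraMap (c : k) : dd k (algebraMap k K c) = 0 := by
  rw [IsScalarTower.algebraMap_apply k k[X] K, dd_poly]; simp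

theorem dd_mul_sq (x : K) :
    dd k x * algebraMap k[X] K x.denom ^ 2 =
      algebraMap k[X] K (derivative x.num * x.denom - x.num * derivative x.denom) := by
  have hx : x * algebraMap k[X] K x.denom = algebraMap k[X] K x.num := by
    have hd : algebraMap k[X] K x.denom ≠ 0 := RatFunc.algebraMap_ne_zero (RatFunc.denom_ne_zero x)
    exact ((div_eq_iff hd).1 (RatFunc.num_div_denom x)).symm
  have h := congrArg (dd k) hx
  rw [dd_mul, dd_poly, dd_poly] at h
  simp only [map_sub, map_mul]
  linear_combination (algebraMap k[X] K x.denom) * h - (algebraMap k[X] K (derivative x.denom)) * hx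

variable {k}

/-- Rational functions regular at `a`. -/
def finPlace (a : k) : ValuationSubring K where
  carrier := {x | x.denom.eval a ≠ 0}
  mul_mem' {x y} hx hy h := by
    obtain ⟨c, hc⟩ := RatFunc.denom_mul_dvd x y
    have := congrArg (eval a) hc
    rw [eval_mul, eval_mul, h, zero_mul] at this
    exact (mul_ne_zero hx hy) this
  one_mem' := by simp [RatFunc.denom_one]
  add_mem' {x y} hx hy h := by
    obtain ⟨c, hc⟩ := RatFunc.denom_add_dvd x y
    have := congrArg (eval a) hc
    rw [eval_mul, eval_mul, h, zero_mul] at this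
    exact (mul_ne_zero hx hy) this
  zero_mem' := by simp [RatFunc.denom_zero]
  neg_mem' {x} hx h := by
    obtain ⟨c, hc⟩ : (-x).denom ∣ x.denom := by
      refine (RatFunc.denom_dvd (RatFunc.denom_ne_zero x)).2 ⟨-x.num, ?_⟩
      rw [map_neg, neg_div, RatFunc.num_div_denom]
    have := congrArg (eval a) hc
    rw [eval_mul, h, zero_mul] at this
    exact hx this
  mem_or_inv_mem' x := by
    by_cases hx : x.denom.eval a ≠ 0
    · exact Or.inl hx
    push Not at hx
    refine Or.inr fun h => ?_
    have hx0 : x ≠ 0 := fun e => by simp [e] at hx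
    obtain ⟨c, hc⟩ := RatFunc.denom_inv_dvd hx0
    obtain ⟨u, v, huv⟩ := RatFunc.isCoprime_num_denom x
    have h1 := congrArg (eval a) huv
    rw [hc, eval_add, eval_mul, eval_mul, eval_mul, h, hx, zero_mul, mul_zero, mul_zero, add_zero,
      eval_one] at h1
    exact zero_ne_one h1

theorem mem_finPlace {a : k} {x : K} : x ∈ finPlace a ↔ x.denom.eval a ≠ 0 := Iff.rfl

theorem poly_mem_finPlace (a : k) (q : k[X]) : algebraMap k[X] K q ∈ finPlace a := by
  rw [mem_finPlace, RatFunc.denom_algebraMap]; simp

/-- Rational functions of degree at most zero. -/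
def inftyPlace (k : Type u) [Field k] : ValuationSubring (RatFunc k) where
  carrier := {x | x.intDegree ≤ 0}
  mul_mem' {x y} (hx : x.intDegree ≤ 0) (hy : y.intDegree ≤ 0) := by
    by_cases h1 : x = 0
    · simp [h1]
    by_cases h2 : y = 0
    · simp [h2]
    change (x * y).intDegree ≤ 0
    rw [RatFunc.intDegree_mul h1 h2]; omega
  one_mem' := by simp
  add_mem' {x y} (hx : x.intDegree ≤ 0) (hy : y.intDegree ≤ 0) := by
    by_cases h1 : y = 0
    · simp [h1, hx]
    by_cases h2 : x + y = 0
    · simp [h2]
    exact le_trans (RatFunc.intDegree_add_le h1 h2) (max_le hx hy)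
  zero_mem' := by simp
  neg_mem' {x} hx := by simpa [RatFunc.intDegree_neg] using hx
  mem_or_inv_mem' x := by
    rcases le_total x.intDegree 0 with h | h
    · exact Or.inl h
    · exact Or.inr (by change x⁻¹.intDegree ≤ 0; rw [RatFunc.intDegree_inv]; omega)

theorem mem_inftyPlace {x : K} : x ∈ inftyPlace k ↔ x.intDegree ≤ 0 := Iff.rfl

/-- Rational functions with at most the pole order `N` at infinity (and zero). -/
def DegLE (N : ℤ) (x : K) : Prop := x = 0 ∨ x.intDegree ≤ N

theorem DegLE.add {N : ℤ} {x y : K} (hx : DegLE N x) (hy : DegLE N y) : DegLE N (x + y) := by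
  by_cases h1 : y = 0
  · simpa [h1] using hx
  by_cases h3 : x = 0
  · simpa [h3] using hy
  by_cases h2 : x + y = 0
  · exact Or.inl h2
  exact Or.inr ((RatFunc.intDegree_add_le h1 h2).trans (max_le (hx.resolve_left h3) (hy.resolve_left h1)))

theorem DegLE.mul {M N : ℤ} {x y : K} (hx : DegLE M x) (hy : DegLE N y) : DegLE (M + N) (x * y) := by
  by_cases h1 : x = 0
  · simp [DegLE, h1]
  by_cases h2 : y = 0
  · simp [DegLE, h2]
  refine Or.inr ?_
  rw [RatFunc.intDegree_mul h1 h2]
  exact add_le_add (hx.resolve_left h1) (hy.resolve_left h2)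

theorem DegLE.mono {M N : ℤ} (h : M ≤ N) {x : K} (hx : DegLE M x) : DegLE N x := hx.imp id fun h' => h'.trans h

theorem DegLE.pow {N : ℤ} {x : K} (hx : DegLE N x) : ∀ q : ℕ, DegLE (q * N) (x ^ q)
  | 0 => Or.inr (by simp)
  | q + 1 => by
    rw [pow_succ]
    exact ((DegLE.pow hx q).mul hx).mono (by push_cast; linarith)

theorem DegLE.sum {N : ℤ} {ι : Type*} (s : Finset ι) {x : ι → K} (hx : ∀ i ∈ s, DegLE N (x i)) :
    DegLE N (∑ i ∈ s, x i) := by
  classical
  induction s using Finset.induction_on with
  | empty => exact Or.inl rfl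
  | insert a s ha ih =>
    rw [Finset.sum_insert ha]
    exact (hx a (Finset.mem_insert_self a s)).add (ih fun i hi => hx i (Finset.mem_insert_of_mem hi))

theorem dd_mem_finPlace {a : k} {x : K} (hx : x ∈ finPlace a) : dd k x ∈ finPlace a := by
  have hd : algebraMap k[X] K x.denom ≠ 0 := RatFunc.algebraMap_ne_zero (RatFunc.denom_ne_zero x)
  have e : dd k x = algebraMap k[X] K (derivative x.num * x.denom - x.num * derivative x.denom) /
      algebraMap k[X] K (x.denom ^ 2) := by
    rw [map_pow, eq_div_iff (pow_ne_zero _ hd), dd_mul_sq]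
  obtain ⟨c, hc⟩ := (RatFunc.denom_dvd (pow_ne_zero 2 (RatFunc.denom_ne_zero x))).2 ⟨_, e⟩
  intro h
  have := congrArg (eval a) hc
  rw [eval_mul, h, zero_mul, eval_pow] at this
  exact pow_ne_zero 2 hx this

/-- The value at infinity. -/
theorem exists_value {x : K} (hx : x ∈ inftyPlace k) :
    ∃ c : k, DegLE (-1) (x - algebraMap k K c) := by
  rw [mem_inftyPlace] at hx
  by_cases h0 : x = 0
  · exact ⟨0, Or.inl (by simp [h0])⟩
  have hd : algebraMap k[X] K x.denom ≠ 0 := RatFunc.algebraMap_ne_zero (RatFunc.denom_ne_zero x)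
  have hdeg : x.num.natDegree ≤ x.denom.natDegree := by
    rw [RatFunc.intDegree] at hx; omega
  let c := x.num.coeff x.denom.natDegree
  refine ⟨c, ?_⟩
  let P := x.num - C c * x.denom
  have e : x - algebraMap k K c = algebraMap k[X] K P / algebraMap k[X] K x.denom := by
    rw [eq_div_iff hd, map_sub, map_mul, sub_mul, IsScalarTower.algebraMap_apply k k[X] K,
      Polynomial.algebraMap_eq]
    congr 1
    exact ((div_eq_iff hd).1 (RatFunc.num_div_denom x)).symm
  by_cases hP : P = 0
  · exact Or.inl (by rw [e, hP, map_zero, zero_div])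
  refine Or.inr ?_
  rw [e, RatFunc.intDegree_div (RatFunc.algebraMap_ne_zero hP) hd, RatFunc.intDegree_polynomial,
    RatFunc.intDegree_polynomial]
  have h1 : P.natDegree ≤ x.denom.natDegree :=
    (natDegree_sub_le _ _).trans (max_le hdeg ((natDegree_C_mul_le _ _)))
  have h2 : P.coeff x.denom.natDegree = 0 := by
    simp [P, c, coeff_sub, coeff_C_mul, (RatFunc.monic_denom x).coeff_natDegree]
  have h3 : P.natDegree ≠ x.denom.natDegree := fun h => hP (leadingCoeff_eq_zero.1 (by
    rw [leadingCoeff, h, h2]))
  omega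

theorem degLE_dd {x : K} (hx : x ∈ inftyPlace k) : DegLE (-2) (dd k x) := by
  -- remove the value at infinity
  obtain ⟨c, hy⟩ := exists_value hx
  have hdd : dd k x = dd k (x - algebraMap k K c) := by
    have := dd_add k (x - algebraMap k K c) (algebraMap k K c)
    rw [sub_add_cancel, dd_algebraMap, add_zero] at this
    exact this
  rw [hdd]
  set y := x - algebraMap k K c
  by_cases hz : dd k y = 0
  · exact Or.inl hz
  refine Or.inr ?_
  have hy' : y ≠ 0 := fun h => hz (by rw [h]; exact (congrArg (dd k) (map_zero (algebraMap k K)).symm).trans (dd_algebraMap k 0))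
  have hd : algebraMap k[X] K y.denom ≠ 0 := RatFunc.algebraMap_ne_zero (RatFunc.denom_ne_zero y)
  have h1 := congrArg RatFunc.intDegree (dd_mul_sq k y)
  rw [RatFunc.intDegree_mul hz (pow_ne_zero _ hd), RatFunc.intDegree_polynomial, pow_two,
    RatFunc.intDegree_mul hd hd, RatFunc.intDegree_polynomial] at h1
  have h2 := hy.resolve_left hy'
  rw [RatFunc.intDegree] at h2
  have h3 : (derivative y.num * y.denom - y.num * derivative y.denom).natDegree + 1 ≤
      y.num.natDegree + y.denom.natDegree := by
    have hnd := natDegree_derivative_le y.num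
    have hdd' := natDegree_derivative_le y.denom
    have hpos : 1 ≤ y.denom.natDegree := by omega
    rcases Nat.eq_zero_or_pos y.num.natDegree with h | h
    · have hder : derivative y.num = 0 := by
        rw [eq_C_of_natDegree_eq_zero h, derivative_C]
      rw [hder, zero_mul, zero_sub, natDegree_neg]
      have := (natDegree_mul_le (p := y.num) (q := derivative y.denom))
      omega
    · have ha := (natDegree_mul_le (p := derivative y.num) (q := y.denom))
      have hb := (natDegree_mul_le (p := y.num) (q := derivative y.denom))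
      have := natDegree_sub_le (derivative y.num * y.denom) (y.num * derivative y.denom)
      omega
  omega

theorem eq_poly_of_mem [IsAlgClosed k] {x : K} (h : ∀ a, x ∈ finPlace a) :
    ∃ q : k[X], x = algebraMap k[X] K q := by
  have hd : x.denom.natDegree = 0 := by
    by_contra hne
    obtain ⟨a, ha⟩ := IsAlgClosed.exists_root x.denom fun hd => hne (by
      rw [natDegree_eq_zero_iff_degree_le_zero, hd])
    exact h a ha
  have h1 : x.denom = 1 := by
    rw [← (RatFunc.monic_denom x).natDegree_eq_zero]; exact hd
  refine ⟨x.num, ?_⟩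
  conv_lhs => rw [← RatFunc.num_div_denom x, h1, map_one, div_one]

theorem poly_degLE_neg {x : K} {N : ℤ} (hN : N < 0) (hx : DegLE N x) (hp : ∃ q : k[X], x = algebraMap k[X] K q) :
    x = 0 := by
  obtain ⟨q, rfl⟩ := hp
  refine hx.resolve_right fun h => ?_
  rw [RatFunc.intDegree_polynomial] at h
  omega

section Frob

variable (p : ℕ) [hp : Fact p.Prime] [CharP k p]

/-- `t ↦ t ^ p`. -/
def sig : K →ₐ[k] K :=
  RatFunc.liftAlgHom ((IsScalarTower.toAlgHom k k[X] K).comp (expand k p))
    (nonZeroDivisors_le_comap_nonZeroDivisors_of_injective _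
      ((RatFunc.algebraMap_injective k).comp (expand_injective hp.out.pos)))

omit [CharP k p] in
theorem sig_poly (q : k[X]) : sig p (algebraMap k[X] K q) = algebraMap k[X] K (expand k p q) := by
  simp [sig, RatFunc.liftAlgHom_apply]

omit [CharP k p] in
theorem intDegree_sig (x : K) : (sig p x).intDegree = p * x.intDegree := by
  by_cases hx : x = 0
  · simp [hx]
  have hn : x.num ≠ 0 := RatFunc.num_ne_zero hx
  have hd : x.denom ≠ 0 := RatFunc.denom_ne_zero x
  conv_lhs => rw [← RatFunc.num_div_denom x]
  rw [map_div₀, sig_poly, sig_poly, RatFunc.intDegree_div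
    (RatFunc.algebraMap_ne_zero ((expand_ne_zero hp.out.pos).2 hn))
    (RatFunc.algebraMap_ne_zero ((expand_ne_zero hp.out.pos).2 hd)), RatFunc.intDegree_polynomial,
    RatFunc.intDegree_polynomial, natDegree_expand, natDegree_expand, RatFunc.intDegree]
  push_cast
  ring

theorem exists_sig [IsAlgClosed k] {x : K} (hx : dd k x = 0) : ∃ y, sig p y = x := by
  have hd : algebraMap k[X] K x.denom ≠ 0 := RatFunc.algebraMap_ne_zero (RatFunc.denom_ne_zero x)
  have h0 := dd_mul_sq k x
  rw [hx, zero_mul] at h0
  have h0' : derivative x.num * x.denom - x.num * derivative x.denom = 0 :=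
    RatFunc.algebraMap_injective k (by rw [← h0, map_zero])
  let P := x.num * x.denom ^ (p - 1)
  have hP : derivative P = 0 := by
    simp only [P, derivative_mul, derivative_pow]
    have hp1 : ((p - 1 : ℕ) : k) = -1 := by
      rw [Nat.cast_sub hp.out.one_le, CharP.cast_eq_zero, Nat.cast_one, zero_sub]
    rw [hp1, show p - 1 = (p - 1 - 1) + 1 by have := hp.out.two_le; omega, Nat.add_sub_cancel, pow_succ]
    simp only [map_neg, map_one]
    linear_combination (x.denom ^ (p - 1 - 1)) * h0'
  obtain ⟨root, hroot⟩ : ∃ Q : k[X], Q.map (frobenius k p) = x.denom := by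
    refine Polynomial.map_surjective _ (fun c => ?_) x.denom
    obtain ⟨z, hz⟩ := IsAlgClosed.exists_pow_nat_eq c hp.out.pos
    exact ⟨z, by rw [frobenius_def, hz]⟩
  -- the denominator to the power `p`
  have hden : expand k p (x.denom.map (frobenius k p)) = x.denom ^ p := by
    rw [← Polynomial.map_expand, map_frobenius_expand]
  refine ⟨algebraMap k[X] K (contract p P) / algebraMap k[X] K (x.denom.map (frobenius k p)), ?_⟩
  rw [map_div₀, sig_poly, sig_poly, expand_contract p hP hp.out.ne_zero, hden, map_pow]
  simp only [P, map_mul, map_pow]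
  conv_rhs => rw [← RatFunc.num_div_denom x]
  rw [div_eq_div_iff (pow_ne_zero _ hd) hd, mul_assoc, ← pow_succ, Nat.sub_add_cancel hp.out.one_le]

end Frob

end Groth.L12.FrobLift.RatK
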