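import Groth.Agent.L12.FrobLift.Bij
import Groth.Agent.L12.FrobLift.RatK
import Groth.Agent.L16.ProjSpace.Sections
import Mathlib.AlgebraicGeometry.ValuativeCriterion

/-! # No rational curves on a variety with a Frobenius lift and torsion canonical module -/

set_option autoImplicit false
set_option backward.isDefEq.respectTransparency false
universe u

open CategoryTheory CategoryTheory.Limits AlgebraicGeometry TopologicalSpace
open Groth.L18.Frame (rs ro rs_rs ro_ro rs_smul ro_self rs_self)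
open Groth.L22.CurveDeg.Det (IsBasisS)
open OmegaSh (dSect)
open Groth.L12.FrobLift.RatK (dd finPlace inftyPlace DegLE sig)

noncomputable section

namespace Groth.L12.FrobLift

variable {p : ℕ} [Fact p.Prime] {k : Type u} [Field k] [CharP k p] [IsAlgClosed k]
  {X : Scheme.{u}} {f : X ⟶ Spec (CommRingCat.of k)}


/-- The chart data used for the Frobenius lift. -/
structure Coords (f : X ⟶ Spec (CommRingCat.of k)) [QuasiSeparated f] (d : ℕ) where
  U : X.affineOpens
  t : Fin d → Γ(X, U.1)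
  basis : IsBasisS (Omega.sheaf f) fun j => dSect f U.1 (t j)

section Point

variable (ξ : Spec (CommRingCat.of (RatFunc k)) ⟶ X)

/-- The image of the point of `Spec k(t)`. -/
def pt : X := ξ default

theorem top_le {U : X.Opens} (hU : pt ξ ∈ U) : ⊤ ≤ ξ ⁻¹ᵁ U := fun z _ => by
  obtain rfl : z = default := Subsingleton.elim (α := PrimeSpectrum (RatFunc k)) _ _
  exact hU

/-- Values of functions at the point. -/
def gam {U : X.Opens} (hU : pt ξ ∈ U) : Γ(X, U) →+* (RatFunc k) :=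
  (Scheme.ΓSpecIso (CommRingCat.of (RatFunc k))).hom.hom.comp (ξ.appLE U ⊤ (top_le ξ hU)).hom

theorem gam_ro {U V : X.Opens} (hle : V ≤ U) (hV : pt ξ ∈ V) (a : Γ(X, U)) :
    gam ξ hV (ro hle a) = gam ξ (hle hV) a :=
  congrArg (Scheme.ΓSpecIso (CommRingCat.of (RatFunc k))).hom
    (congr($(ξ.map_appLE (top_le ξ hV) (homOfLE hle).op) a))

variable (hξ : ξ ≫ f = Spec.map (CommRingCat.ofHom (algebraMap k (RatFunc k))))

include hξ in
theorem gam_base {U : X.Opens} (hU : pt ξ ∈ U) (c : k) : gam ξ hU (baseHom f U c) = algebraMap k (RatFunc k) c := by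
  have h1 : f.appLE ⊤ U le_top ≫ ξ.appLE U ⊤ (top_le ξ hU) =
      (ξ ≫ f).appLE ⊤ ⊤ le_top := Scheme.Hom.appLE_comp_appLE _ _ _ _ _ _ _
  simp only [hξ] at h1
  have h2 : (Spec.map (CommRingCat.ofHom (algebraMap k (RatFunc k)))).appLE ⊤ ⊤ le_top =
      (Spec.map (CommRingCat.ofHom (algebraMap k (RatFunc k)))).appTop :=
    (Scheme.Hom.app_eq_appLE (f := Spec.map (CommRingCat.ofHom (algebraMap k (RatFunc k)))) (U := ⊤)).symm
  have h3 := congr($(h1.trans h2) ((Scheme.ΓSpecIso (CommRingCat.of k)).inv c))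
  refine (congrArg (Scheme.ΓSpecIso (CommRingCat.of (RatFunc k))).hom h3).trans ?_
  have h4 := congr($(Scheme.ΓSpecIso_naturality (CommRingCat.ofHom (algebraMap k (RatFunc k))))
    ((Scheme.ΓSpecIso (CommRingCat.of k)).inv c))
  exact h4.trans (congrArg (algebraMap k (RatFunc k)) (congr($((Scheme.ΓSpecIso (CommRingCat.of k)).inv_hom_id) c)))

theorem exists_lin [QuasiSeparated f] {U : X.Opens} (hUa : IsAffineOpen U) (hU : pt ξ ∈ U)
    (hc : ∀ c : k, gam ξ hU (baseHom f U c) = algebraMap k (RatFunc k) c) :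
    ∃ L : Γ(Omega.sheaf f, U) →+ (RatFunc k), (∀ a x, L (a • x) = gam ξ hU a * L x) ∧
      ∀ a, L (dSect f U a) = dd k (gam ξ hU a) := by
  obtain ⟨e, he⟩ := exists_kEquiv f hUa
  letI := (baseHom f U).toAlgebra
  letI : Algebra Γ(X, U) (RatFunc k) := (gam ξ hU).toAlgebra
  haveI : IsScalarTower k Γ(X, U) (RatFunc k) := IsScalarTower.of_algebraMap_eq fun c => (hc c).symm
  let D : Derivation k Γ(X, U) (RatFunc k) :=
    { toFun := fun a => dd k (gam ξ hU a)
      map_add' := fun a b => by rw [map_add, RatK.dd_add]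
      map_smul' := fun c a => by
        rw [RingHom.id_apply, Algebra.smul_def, Algebra.smul_def, map_mul, RatK.dd_mul]
        change _ + _ * dd k (gam ξ hU (baseHom f U c)) = _
        rw [hc, RatK.dd_algebraMap, mul_zero, add_zero]
        change gam ξ hU (baseHom f U c) * _ = _
        rw [hc]
      map_one_eq_zero' := by
        change dd k (gam ξ hU 1) = 0
        rw [map_one, ← map_one (algebraMap k (RatFunc k)), RatK.dd_algebraMap]
      leibniz' := fun a b => by
        change dd k (gam ξ hU (a * b)) = gam ξ hU a * _ + gam ξ hU b * _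
        rw [map_mul, RatK.dd_mul]
        rfl }
  refine ⟨AddMonoidHom.mk' (fun x => D.liftKaehlerDifferential (e.symm x)) (by simp), fun a x => ?_, fun a => ?_⟩
  · change D.liftKaehlerDifferential (e.symm (a • x)) = _
    rw [map_smul, map_smul]
    rfl
  · change D.liftKaehlerDifferential (e.symm _) = _
    rw [← he, e.symm_apply_apply, Derivation.liftKaehlerDifferential_comp_D]
    rfl

end Point

variable [FrobSch.IsCharP X p] [IsProper f] [Smooth f] [IsIntegral X]
  {Xl : Scheme.{u}} {g : Xl ⟶ Spec (CommRingCat.of (FrobAlg.W2 p k))}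
  {i : X ⟶ Xl} {Fl : Xl ⟶ Xl} (h : IsFLift p f g i Fl) (d : ℕ)

/-- The hypothesis that the divided differential is bijective on coordinates. -/
def HasUnitMatrix : Prop :=
  ∀ c : Coords f d, ∃ S : Matrix (Fin d) (Fin d) Γ(X, c.U.1), IsUnit S.det ∧
    ∀ i', zeta h c.U (dSect f c.U.1 (c.t i')) = ∑ j, S i' j • dSect f c.U.1 (c.t j)

variable {h d}

theorem zeta_iter_sum [QuasiSeparated f] (U : X.affineOpens) (n : ℕ) (a : Fin d → Γ(X, U.1))
    (x : Fin d → Γ(Omega.sheaf f, U.1)) :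
    (zeta h U)^[n] (∑ j, a j • x j) = ∑ j, a j ^ p ^ n • (zeta h U)^[n] (x j) := by
  induction n generalizing a with
  | zero => simp
  | succ n ih =>
    simp only [Function.iterate_succ', Function.comp_apply]
    rw [ih]
    let Z : Γ(Omega.sheaf f, U.1) →+ Γ(Omega.sheaf f, U.1) :=
      AddMonoidHom.mk' (zeta h U) (isZeta_zeta h U).map_add
    change Z _ = _
    rw [map_sum]
    refine Finset.sum_congr rfl fun j _ => ?_
    change zeta h U _ = _
    rw [(isZeta_zeta h U).map_smul, ← pow_mul, ← pow_succ]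

theorem zeta_iter_rs [QuasiSeparated f] (U U' : X.affineOpens) (hle : U'.1 ≤ U.1) (n : ℕ)
    (x : Γ(Omega.sheaf f, U.1)) :
    rs (Omega.sheaf f) hle ((zeta h U)^[n] x) = (zeta h U')^[n] (rs (Omega.sheaf f) hle x) := by
  induction n generalizing x with
  | zero => rfl
  | succ n ih => simp only [Function.iterate_succ', Function.comp_apply]; rw [zeta_rs h U U' hle, ih]

theorem exists_iter [QuasiSeparated f] (hM : HasUnitMatrix h d) (c : Coords f d) (n : ℕ) :
    ∃ M : Matrix (Fin d) (Fin d) Γ(X, c.U.1), IsUnit M.det ∧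
      ∀ i', (zeta h c.U)^[n] (dSect f c.U.1 (c.t i')) = ∑ j, M i' j • dSect f c.U.1 (c.t j) := by
  obtain ⟨S, hS, hSd⟩ := hM c
  induction n with
  | zero => exact ⟨1, by simp, fun i' => by simp [Matrix.one_apply]⟩
  | succ n ih =>
    obtain ⟨M, hMu, hMd⟩ := ih
    refine ⟨M.map (fun a => a ^ p) * S, ?_, fun i' => ?_⟩
    · rw [Matrix.det_mul]
      refine IsUnit.mul ?_ hS
      have := RingHom.map_det (FrobSch.powHom p Γ(X, c.U.1) (FrobSch.natCast_eq_zero_app X p c.U.1)) M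
      have h2 := hMu.map (FrobSch.powHom p Γ(X, c.U.1) (FrobSch.natCast_eq_zero_app X p c.U.1))
      rw [this] at h2
      exact h2
    · simp only [Function.iterate_succ', Function.comp_apply]
      rw [hMd]
      let Z : Γ(Omega.sheaf f, c.U.1) →+ Γ(Omega.sheaf f, c.U.1) :=
        AddMonoidHom.mk' (zeta h c.U) (isZeta_zeta h c.U).map_add
      change Z _ = _
      rw [map_sum]
      change ∑ j, zeta h c.U _ = _
      simp only [(isZeta_zeta h c.U).map_smul, hSd, Finset.smul_sum, smul_smul]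
      rw [Finset.sum_comm]
      refine Finset.sum_congr rfl fun l _ => ?_
      simp only [Matrix.mul_apply, Matrix.map_apply, Finset.sum_smul]

theorem pow_mulVec (A : Matrix (Fin d) (Fin d) (RatFunc k)) (v : Fin d → (RatFunc k)) (n : ℕ) (i' : Fin d) :
    (A.map (fun a => a ^ p ^ n)).mulVec (fun l => v l ^ p ^ n) i' = (A.mulVec v i') ^ p ^ n := by
  haveI : CharP (RatFunc k) p := charP_of_injective_algebraMap (algebraMap k (RatFunc k)).injective p
  simp only [Matrix.mulVec, dotProduct, Matrix.map_apply]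
  rw [sum_pow_char_pow]
  simp only [mul_pow]

/-- The vectors `φ(M_n)⁻¹ (D t) ^ q` transform by the Jacobian matrix. -/
theorem transfer (hM : HasUnitMatrix h d) (ξ : Spec (CommRingCat.of (RatFunc k)) ⟶ X)
    (hξ : ξ ≫ f = Spec.map (CommRingCat.ofHom (algebraMap k (RatFunc k)))) (c₀ c : Coords f d)
    (hc₀ : pt ξ ∈ c₀.U.1) (hc : pt ξ ∈ c.U.1) :
    ∃ G : Matrix (Fin d) (Fin d) (RatFunc k), ∀ (n : ℕ) (h₀ hs : Fin d → (RatFunc k))
      (M₀ : Matrix (Fin d) (Fin d) Γ(X, c₀.U.1)) (M : Matrix (Fin d) (Fin d) Γ(X, c.U.1)),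
      IsUnit M.det →
      (∀ i', (zeta h c₀.U)^[n] (dSect f c₀.U.1 (c₀.t i')) = ∑ j, M₀ i' j • dSect f c₀.U.1 (c₀.t j)) →
      (∀ i', (zeta h c.U)^[n] (dSect f c.U.1 (c.t i')) = ∑ j, M i' j • dSect f c.U.1 (c.t j)) →
      (M₀.map (gam ξ hc₀)).mulVec h₀ = (fun l => dd k (gam ξ hc₀ (c₀.t l)) ^ p ^ n) →
      (M.map (gam ξ hc)).mulVec hs = (fun l => dd k (gam ξ hc (c.t l)) ^ p ^ n) →
      h₀ = G.mulVec hs := by
  obtain ⟨_, ⟨W, hWa, rfl⟩, hxW, hWle⟩ := X.isBasis_affineOpens.exists_subset_of_mem_open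
    (show pt ξ ∈ c₀.U.1 ⊓ c.U.1 from ⟨hc₀, hc⟩) (c₀.U.1 ⊓ c.U.1).2
  let V : X.affineOpens := ⟨W, hWa⟩
  have h0 : V.1 ≤ c₀.U.1 := fun y hy => (hWle hy).1
  have h1 : V.1 ≤ c.U.1 := fun y hy => (hWle hy).2
  let dt := fun l => rs (Omega.sheaf f) h0 (dSect f c₀.U.1 (c₀.t l))
  let ds := fun l => rs (Omega.sheaf f) h1 (dSect f c.U.1 (c.t l))
  have bt : Function.Bijective fun r : Fin d → Γ(X, V.1) => ∑ j, r j • dt j := c₀.basis V.1 h0
  have bs : Function.Bijective fun r : Fin d → Γ(X, V.1) => ∑ j, r j • ds j := c.basis V.1 h1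
  choose E' hE' using fun l => bt.2 (ds l)
  choose E hE using fun l => bs.2 (dt l)
  have hcomb : ∀ (a : Fin d → Γ(X, V.1)) (A : Fin d → Fin d → Γ(X, V.1)) (x : Fin d → Γ(Omega.sheaf f, V.1)),
      ∑ j, a j • (∑ l, A j l • x l) = ∑ l, (∑ j, a j * A j l) • x l := by
    intro a A x
    simp only [Finset.smul_sum, smul_smul, Finset.sum_smul]
    exact Finset.sum_comm
  have hEE : (Matrix.of E * Matrix.of E' : Matrix (Fin d) (Fin d) Γ(X, V.1)) = 1 := by
    refine funext fun i' => bt.1 ?_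
    simp only [Matrix.mul_apply, Matrix.of_apply, Matrix.one_apply, ite_smul, one_smul, zero_smul,
      Finset.sum_ite_eq, Finset.mem_univ, if_true]
    rw [← hcomb, ← hE i']
    exact Finset.sum_congr rfl fun j _ => congrArg (E i' j • ·) (hE' j)
  refine ⟨(Matrix.of E).map (gam ξ hxW), fun n h₀ hs M₀ M hMu e₀ e eh₀ ehs => ?_⟩
  -- the matrix identity on the overlap
  have hmat : (M.map (ro h1)) * Matrix.of E' =
      (Matrix.of E').map (fun a => a ^ p ^ n) * M₀.map (ro h0) := by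
    refine funext fun i' => bt.1 ?_
    simp only [Matrix.mul_apply, Matrix.of_apply, Matrix.map_apply]
    rw [← hcomb, ← hcomb]
    have lhs : (zeta h V)^[n] (ds i') = ∑ j, ro h1 (M i' j) • ∑ l, E' j l • dt l := by
      simp only [ds]
      rw [← zeta_iter_rs c.U V h1, e i', show rs (Omega.sheaf f) h1 (∑ j, _) = _ from map_sum _ _ _]
      refine Finset.sum_congr rfl fun j _ => ?_
      change rs (Omega.sheaf f) h1 (_ • _) = _
      rw [rs_smul]
      exact congrArg _ (hE' j).symm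
    have rhs : (zeta h V)^[n] (ds i') = ∑ j, E' i' j ^ p ^ n • ∑ l, ro h0 (M₀ j l) • dt l := by
      rw [← hE' i', zeta_iter_sum]
      refine Finset.sum_congr rfl fun j _ => congrArg _ ?_
      simp only [dt]
      rw [← zeta_iter_rs c₀.U V h0, e₀ j, show rs (Omega.sheaf f) h0 (∑ l, _) = _ from map_sum _ _ _]
      exact Finset.sum_congr rfl fun l _ => rs_smul _ _ _ _
    exact lhs.symm.trans rhs
  obtain ⟨L, hL, hLd⟩ := exists_lin (f := f) ξ hWa hxW fun a => gam_base ξ hξ hxW a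
  have hLdt : ∀ l, L (dt l) = dd k (gam ξ hc₀ (c₀.t l)) := fun l => by
    simp only [dt]
    rw [show rs (Omega.sheaf f) h0 (dSect f c₀.U.1 (c₀.t l)) = dSect f V.1 (ro h0 (c₀.t l)) from
      (OmegaSh.dSect_map f h0 _).symm, hLd]
    exact congrArg (dd k) (gam_ro ξ h0 hxW _)
  have hLds : ∀ l, L (ds l) = dd k (gam ξ hc (c.t l)) := fun l => by
    simp only [ds]
    rw [show rs (Omega.sheaf f) h1 (dSect f c.U.1 (c.t l)) = dSect f V.1 (ro h1 (c.t l)) from
      (OmegaSh.dSect_map f h1 _).symm, hLd]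
    exact congrArg (dd k) (gam_ro ξ h1 hxW _)
  have hE'L : ((Matrix.of E').map (gam ξ hxW)).mulVec (fun l => dd k (gam ξ hc₀ (c₀.t l))) =
      fun l => dd k (gam ξ hc (c.t l)) := funext fun l => by
    rw [← hLds, ← hE' l, map_sum]
    simp only [hL, hLdt, Matrix.mulVec, dotProduct, Matrix.map_apply, Matrix.of_apply]
  have hr1 : (M.map (ro h1)).map (gam ξ hxW) = M.map (gam ξ hc) := by
    ext a b; exact gam_ro ξ h1 hxW _
  have hr0 : (M₀.map (ro h0)).map (gam ξ hxW) = M₀.map (gam ξ hc₀) := by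
    ext a b; exact gam_ro ξ h0 hxW _
  have hmatK := congrArg (fun A => A.map (gam ξ hxW)) hmat
  change (_ * _ : Matrix (Fin d) (Fin d) Γ(X, V.1)).map (gam ξ hxW) = (_ * _ : Matrix _ _ _).map (gam ξ hxW) at hmatK
  rw [Matrix.map_mul, Matrix.map_mul, hr1, hr0] at hmatK
  have hpw : ((Matrix.of E').map (fun a => a ^ p ^ n)).map (gam ξ hxW) =
      ((Matrix.of E').map (gam ξ hxW)).map (fun a => a ^ p ^ n) := by
    ext a b; simp
  have key : (M.map (gam ξ hc)).mulVec (((Matrix.of E').map (gam ξ hxW)).mulVec h₀) =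
      (M.map (gam ξ hc)).mulVec hs := by
    rw [ehs, Matrix.mulVec_mulVec, hmatK, hpw, ← Matrix.mulVec_mulVec, eh₀]
    funext l
    rw [pow_mulVec, hE'L]
  have hu : IsUnit (M.map (gam ξ hc)) := by
    rw [Matrix.isUnit_iff_isUnit_det, ← RingHom.mapMatrix_apply, ← RingHom.map_det]
    exact hMu.map _
  have h5 := Matrix.mulVec_injective_of_isUnit hu key
  have hone : ((Matrix.of E).map (gam ξ hxW)) * ((Matrix.of E').map (gam ξ hxW)) = 1 := by
    rw [← Matrix.map_mul, hEE, Matrix.map_one _ (map_zero _) (map_one _)]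
  rw [← h5, Matrix.mulVec_mulVec, hone, Matrix.one_mulVec]

omit [CharP k p] [Fact p.Prime] [FrobSch.IsCharP X p] [Smooth f] [IsIntegral X] in
theorem exists_center (ξ : Spec (CommRingCat.of (RatFunc k)) ⟶ X)
    (hξ : ξ ≫ f = Spec.map (CommRingCat.ofHom (algebraMap k (RatFunc k))))
    (O : ValuationSubring (RatFunc k)) (hO : ∀ c : k, algebraMap k (RatFunc k) c ∈ O) :
    ∃ x : X, ∀ U : X.Opens, x ∈ U → ∃ hU : pt ξ ∈ U, ∀ a, gam ξ hU a ∈ O := by
  let incl : CommRingCat.of k ⟶ CommRingCat.of O :=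
    CommRingCat.ofHom ((algebraMap k (RatFunc k)).codRestrict O.toSubring hO)
  let val : CommRingCat.of O ⟶ CommRingCat.of (RatFunc k) := CommRingCat.ofHom (algebraMap O (RatFunc k))
  have hEx : ValuativeCriterion.Existence f := by
    have := (inferInstance : UniversallyClosed f)
    rw [UniversallyClosed.eq_valuativeCriterion] at this
    exact this.1
  have hsq : CommSq ξ (Spec.map val) f (Spec.map incl) := ⟨by
    rw [hξ, ← Spec.map_comp]
    rfl⟩
  obtain ⟨⟨⟨l, hl1, hl2⟩⟩⟩ := hEx { R := O, K := (RatFunc k), i₁ := ξ, i₂ := Spec.map incl, commSq := hsq }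
  refine ⟨l (IsLocalRing.closedPoint O), fun U hx => ?_⟩
  have htop : ⊤ ≤ l ⁻¹ᵁ U := fun z _ =>
    (IsLocalRing.specializes_closedPoint (show PrimeSpectrum O from z)).mem_open (l ⁻¹ᵁ U).2 hx
  have hU : pt ξ ∈ U := by
    have h1 : ξ default = l (Spec.map val default) := congr($(hl1.symm) default)
    rw [pt, h1]
    exact htop trivial
  refine ⟨hU, fun a => ?_⟩
  have h2 : l.appLE U ⊤ htop ≫ (Spec.map val).appLE ⊤ ⊤ le_top =
      (Spec.map val ≫ l).appLE U ⊤ (fun z _ => htop trivial) := Scheme.Hom.appLE_comp_appLE _ _ _ _ _ _ _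
  have hl1' : Spec.map val ≫ l = ξ := hl1
  simp only [hl1'] at h2
  have h3 : (Spec.map val).appLE ⊤ ⊤ le_top = (Spec.map val).appTop :=
    (Scheme.Hom.app_eq_appLE (f := Spec.map val) (U := ⊤)).symm
  rw [h3] at h2
  have h4 := congr($(Scheme.ΓSpecIso_naturality val) (l.appLE U ⊤ htop a))
  have h5 : gam ξ hU a = val ((Scheme.ΓSpecIso (CommRingCat.of O)).hom (l.appLE U ⊤ htop a)) :=
    (congrArg (Scheme.ΓSpecIso (CommRingCat.of (RatFunc k))).hom (congr($h2 a)).symm).trans h4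
  rw [h5]
  exact ((Scheme.ΓSpecIso (CommRingCat.of O)).hom (l.appLE U ⊤ htop a)).2

/-- The derivative of a point of `X` over `k(t)` vanishes. -/
theorem dd_gam_eq_zero (hM : HasUnitMatrix h d) (hd : topologicalKrullDim X = d)
    (ξ : Spec (CommRingCat.of (RatFunc k)) ⟶ X) (hξ : ξ ≫ f = Spec.map (CommRingCat.ofHom (algebraMap k (RatFunc k))))
    (c₀ : Coords f d) (hc₀ : pt ξ ∈ c₀.U.1) (hfin : (baseHom f c₀.U.1).FiniteType) (a : Γ(X, c₀.U.1)) :
    dd k (gam ξ hc₀ a) = 0 := by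
  classical
  have hcover : ∀ x : X, ∃ c : Coords f d, x ∈ c.U.1 := fun x => by
    obtain ⟨U, t, hx, -, ht⟩ := exists_coords f d hd x
    exact ⟨⟨U, t, isBasisS_dSect f U.2 t ht⟩, hx⟩
  choose M₀ hM₀u hM₀ using exists_iter hM c₀
  let Ldt := fun l => dd k (gam ξ hc₀ (c₀.t l))
  have hu : ∀ n, IsUnit ((M₀ n).map (gam ξ hc₀)) := fun n => by
    rw [Matrix.isUnit_iff_isUnit_det, ← RingHom.mapMatrix_apply, ← RingHom.map_det]
    exact (hM₀u n).map _
  choose h₀ hh₀ using fun n => Matrix.mulVec_surjective_iff_isUnit.2 (hu n) (fun l => Ldt l ^ p ^ n)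
  -- the bound at a place
  have hplace : ∀ (O : ValuationSubring (RatFunc k)), (∀ c : k, algebraMap k (RatFunc k) c ∈ O) →
      ∃ G : Matrix (Fin d) (Fin d) (RatFunc k), ∀ n, ∃ (B : Matrix (Fin d) (Fin d) (RatFunc k)) (w : Fin d → (RatFunc k)),
        (∀ i' j, B i' j ∈ O) ∧ (∀ j, ∃ y ∈ O, w j = dd k y) ∧
          h₀ n = G.mulVec (B.mulVec fun j => w j ^ p ^ n) := by
    intro O hO
    obtain ⟨x, hx⟩ := exists_center ξ hξ O hO
    obtain ⟨c, hxc⟩ := hcover x
    obtain ⟨hc, hmem⟩ := hx c.U.1 hxc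
    obtain ⟨G, hG⟩ := transfer hM ξ hξ c₀ c hc₀ hc
    refine ⟨G, fun n => ?_⟩
    obtain ⟨M, hMu, hMd⟩ := exists_iter hM c n
    refine ⟨M⁻¹.map (gam ξ hc), fun j => dd k (gam ξ hc (c.t j)), fun i' j => hmem _,
      fun j => ⟨_, hmem _, rfl⟩, ?_⟩
    refine hG n _ _ (M₀ n) M hMu (hM₀ n) hMd (hh₀ n) ?_
    rw [Matrix.mulVec_mulVec, ← Matrix.map_mul, Matrix.mul_nonsing_inv _ hMu,
      Matrix.map_one _ (map_zero _) (map_one _), Matrix.one_mulVec]
  -- finitely many bad finite places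
  letI := (baseHom f c₀.U.1).toAlgebra
  haveI : Algebra.FiniteType k Γ(X, c₀.U.1) := hfin
  obtain ⟨gens, hgens⟩ := (inferInstance : Algebra.FiniteType k Γ(X, c₀.U.1)).out
  let P : Polynomial k := ∏ x ∈ gens, (gam ξ hc₀ x).denom
  have hPne : P ≠ 0 := Finset.prod_ne_zero_iff.2 fun x _ => RatFunc.denom_ne_zero _
  let bad := P.roots.toFinset
  have hk : ∀ (a : k) (c : k), algebraMap k (RatFunc k) c ∈ finPlace a := fun a c => by
    rw [IsScalarTower.algebraMap_apply k (Polynomial k) (RatFunc k)]; exact RatK.poly_mem_finPlace a _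
  have hgood : ∀ a ∉ bad, ∀ y, gam ξ hc₀ y ∈ finPlace a := by
    intro a ha y
    have hy : y ∈ Algebra.adjoin k (gens : Set Γ(X, c₀.U.1)) := hgens ▸ trivial
    induction hy using Algebra.adjoin_induction with
    | mem x hx =>
      rw [RatK.mem_finPlace]
      intro h0
      refine ha ?_
      simp only [bad, Multiset.mem_toFinset, Polynomial.mem_roots hPne, Polynomial.IsRoot, P,
        Polynomial.eval_prod]
      exact Finset.prod_eq_zero hx h0
    | algebraMap c => exact (congrArg (· ∈ finPlace a) (gam_base ξ hξ hc₀ c)).mpr (hk a c)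
    | add x y _ _ hx hy => rw [map_add]; exact add_mem hx hy
    | mul x y _ _ hx hy => rw [map_mul]; exact mul_mem hx hy
  choose G hG using fun a : k => hplace (finPlace a) (hk a)
  obtain ⟨Gi, hGi⟩ := hplace (inftyPlace k) fun c => by
    rw [RatK.mem_inftyPlace, IsScalarTower.algebraMap_apply k (Polynomial k) (RatFunc k),
      RatFunc.intDegree_polynomial]; simp
  let Q : Polynomial k := ∏ a ∈ bad, ∏ i' : Fin d, ∏ j : Fin d, (G a i' j).denom
  let q0 : (RatFunc k) := algebraMap (Polynomial k) (RatFunc k) Q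
  have hpoly : ∀ a ∈ bad, ∀ i' j, q0 * G a i' j ∈ finPlace a := by
    intro a ha i' j
    obtain ⟨c, hc⟩ : (G a i' j).denom ∣ Q :=
      ((Finset.dvd_prod_of_mem _ (Finset.mem_univ j)).trans (Finset.dvd_prod_of_mem
        (fun i' : Fin d => ∏ j : Fin d, (G a i' j).denom) (Finset.mem_univ i'))).trans
        (Finset.dvd_prod_of_mem _ ha)
    have : q0 * G a i' j = algebraMap (Polynomial k) (RatFunc k) (c * (G a i' j).num) := by
      have hd0 : algebraMap (Polynomial k) (RatFunc k) (G a i' j).denom ≠ 0 :=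
        RatFunc.algebraMap_ne_zero (RatFunc.denom_ne_zero _)
      simp only [q0, hc, map_mul]
      conv_lhs => arg 2; rw [← RatFunc.num_div_denom (G a i' j)]
      field_simp
    rw [this]
    exact RatK.poly_mem_finPlace a _
  have hreg : ∀ n i' a, q0 * h₀ n i' ∈ finPlace a := by
    intro n i' a
    by_cases ha : a ∈ bad
    · obtain ⟨B, w, hB, hw, he⟩ := hG a n
      rw [he, Matrix.mulVec, dotProduct, Finset.mul_sum]
      refine sum_mem fun j _ => ?_
      rw [← mul_assoc]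
      refine mul_mem (hpoly a ha i' j) ?_
      show ∑ l, B j l * w l ^ p ^ n ∈ finPlace a
      refine sum_mem fun l _ => mul_mem (hB j l) (pow_mem ?_ _)
      obtain ⟨y, hy, e⟩ := hw l
      rw [e]; exact RatK.dd_mem_finPlace hy
    · refine mul_mem (RatK.poly_mem_finPlace a Q) ?_
      have hinv : h₀ n = ((M₀ n)⁻¹.map (gam ξ hc₀)).mulVec (fun l => Ldt l ^ p ^ n) := by
        rw [← hh₀ n, Matrix.mulVec_mulVec, ← Matrix.map_mul, Matrix.nonsing_inv_mul _ (hM₀u n),
          Matrix.map_one _ (map_zero _) (map_one _), Matrix.one_mulVec]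
      rw [hinv]
      show ∑ j, gam ξ hc₀ ((M₀ n)⁻¹ i' j) * Ldt j ^ p ^ n ∈ finPlace a
      exact sum_mem fun j _ => mul_mem (hgood a ha _) (pow_mem (RatK.dd_mem_finPlace (hgood a ha _)) _)
  let N : ℕ := Finset.univ.sup fun ij : Fin d × Fin d => (q0 * Gi ij.1 ij.2).intDegree.toNat
  have hN : ∀ i' j, DegLE (N : ℤ) (q0 * Gi i' j) := fun i' j => Or.inr (by
    have := Finset.le_sup (f := fun ij : Fin d × Fin d => (q0 * Gi ij.1 ij.2).intDegree.toNat)
      (Finset.mem_univ (i', j))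
    have h2 : ((q0 * Gi i' j).intDegree.toNat : ℤ) ≤ (N : ℤ) := by exact_mod_cast this
    omega)
  have hvanish : h₀ (N + 1) = 0 := by
    funext i'
    have hq : N + 1 < p ^ (N + 1) := Nat.lt_pow_self (Fact.out : p.Prime).one_lt
    obtain ⟨B, w, hB, hw, he⟩ := hGi (N + 1)
    have hdeg : DegLE ((N : ℤ) + (0 + (p ^ (N + 1) : ℕ) * (-2))) (q0 * h₀ (N + 1) i') := by
      rw [he, Matrix.mulVec, dotProduct, Finset.mul_sum]
      refine DegLE.sum _ fun j _ => ?_
      rw [← mul_assoc]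
      refine (hN i' j).mul ?_
      show DegLE _ (∑ l, B j l * w l ^ p ^ (N + 1))
      refine DegLE.sum _ fun l _ => DegLE.mul (Or.inr (hB j l)) ?_
      obtain ⟨y, hy, e⟩ := hw l
      rw [e]
      exact (RatK.degLE_dd hy).pow _
    have hlt : (N : ℤ) + (0 + (p ^ (N + 1) : ℕ) * (-2)) < 0 := by
      have : ((N : ℤ) + 1) < ((p ^ (N + 1) : ℕ) : ℤ) := by exact_mod_cast hq
      omega
    have h6 := RatK.poly_degLE_neg hlt hdeg (RatK.eq_poly_of_mem (hreg (N + 1) i'))
    refine (mul_eq_zero.1 h6).resolve_left ?_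
    exact RatFunc.algebraMap_ne_zero (Finset.prod_ne_zero_iff.2 fun a _ => Finset.prod_ne_zero_iff.2
      fun i' _ => Finset.prod_ne_zero_iff.2 fun j _ => RatFunc.denom_ne_zero _)
  have hL0 : ∀ l, Ldt l = 0 := fun l => by
    have := congrFun (hh₀ (N + 1)) l
    rw [hvanish, Matrix.mulVec_zero] at this
    exact eq_zero_of_pow_eq_zero this.symm
  obtain ⟨L, hL, hLd⟩ := exists_lin (f := f) ξ c₀.U.2 hc₀ fun x => gam_base ξ hξ hc₀ x
  obtain ⟨r, hr⟩ := (c₀.basis c₀.U.1 le_rfl).2 (dSect f c₀.U.1 a)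
  rw [← hLd a, ← hr, map_sum]
  refine Finset.sum_eq_zero fun j _ => ?_
  rw [hL, rs_self, hLd]
  exact mul_eq_zero_of_right _ (hL0 j)

end Groth.L12.FrobLift
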