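import Groth.Agent.L12.FrobLift.Curve
import Groth.Agent.L16.ProjSpace.Basic
import Mathlib.AlgebraicGeometry.FunctionField

/-! # Rational curves are constant -/

set_option autoImplicit false
set_option backward.isDefEq.respectTransparency false
universe u

open CategoryTheory CategoryTheory.Limits AlgebraicGeometry TopologicalSpace
open Groth.L18.Frame (rs ro)
open Groth.L12.FrobLift.RatK (dd sig)

noncomputable section

namespace Groth.L12.FrobLift

variable {p : ℕ} [Fact p.Prime] {k : Type u} [Field k] [CharP k p] [IsAlgClosed k]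
  {X : Scheme.{u}} {f : X ⟶ Spec (CommRingCat.of k)}

omit [Fact p.Prime] [CharP k p] [IsAlgClosed k] in
/-- The point of the spectrum of a field goes to the kernel. -/
theorem asIdeal_specMap {R : Type u} [CommRing R] {K : Type u} [Field K] (φ : R →+* K)
    (z : Spec (CommRingCat.of K)) :
    (show PrimeSpectrum R from Spec.map (CommRingCat.ofHom φ) z).asIdeal = RingHom.ker φ := by
  change Ideal.comap φ (show PrimeSpectrum K from z).asIdeal = _
  rw [(Ideal.eq_bot_or_top _).resolve_right (show PrimeSpectrum K from z).2.ne_top]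
  rfl

omit [Fact p.Prime] [CharP k p] [IsAlgClosed k] in
theorem fromSpec_comp {U : X.Opens} (hU : IsAffineOpen U) :
    hU.fromSpec ≫ f = Spec.map (CommRingCat.ofHom (baseHom f U)) := by
  rw [← IsAffineOpen.SpecMap_appLE_fromSpec f (isAffineOpen_top _) hU le_top,
    IsAffineOpen.fromSpec_top, Scheme.isoSpec_Spec_inv, ← Spec.map_comp]
  rfl

theorem gam_fromSpec {U : X.Opens} (hU : IsAffineOpen U) (φ : Γ(X, U) →+* RatFunc k)
    (hp : pt (Spec.map (CommRingCat.ofHom φ) ≫ hU.fromSpec) ∈ U) (a : Γ(X, U)) :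
    gam (Spec.map (CommRingCat.ofHom φ) ≫ hU.fromSpec) hp a = φ a := by
  let j := hU.fromSpec
  let ψ := Spec.map (CommRingCat.ofHom φ)
  have hW : ⊤ ≤ j ⁻¹ᵁ U := hU.fromSpec_preimage_self.ge
  have h1 : j.appLE U ⊤ hW = (Scheme.ΓSpecIso Γ(X, U)).inv := by
    rw [Scheme.Hom.appLE, hU.fromSpec_app_self, Category.assoc, ← Functor.map_comp]
    exact (congrArg ((Scheme.ΓSpecIso Γ(X, U)).inv ≫ ·) ((Spec Γ(X, U)).presheaf.map_id _)).trans
      (Category.comp_id _)
  have h2 : j.appLE U ⊤ hW ≫ ψ.appLE ⊤ ⊤ le_top = (ψ ≫ j).appLE U ⊤ (top_le _ hp) :=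
    Scheme.Hom.appLE_comp_appLE _ _ _ _ _ _ _
  have h3 : ψ.appLE ⊤ ⊤ le_top = ψ.appTop := (Scheme.Hom.app_eq_appLE (f := ψ) (U := ⊤)).symm
  rw [h1, h3] at h2
  have h4 := congr($(Scheme.ΓSpecIso_naturality (CommRingCat.ofHom φ)) ((Scheme.ΓSpecIso Γ(X, U)).inv a))
  refine ((congrArg (Scheme.ΓSpecIso (CommRingCat.of (RatFunc k))).hom (congr($h2 a)).symm).trans h4).trans ?_
  exact congrArg φ (congr($((Scheme.ΓSpecIso Γ(X, U)).inv_hom_id) a))

omit [CharP k p] [IsAlgClosed k] in
theorem intDegree_sig_iterate (n : ℕ) (y : RatFunc k) :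
    ((sig p)^[n] y).intDegree = (p : ℤ) ^ n * y.intDegree := by
  induction n with
  | zero => simp
  | succ n ih => rw [Function.iterate_succ', Function.comp_apply, RatK.intDegree_sig, ih, pow_succ]; ring

omit [CharP k p] [IsAlgClosed k] in
theorem eq_const (x : RatFunc k) (hx : ∀ (n : ℕ) (c : k), ∃ y, x - algebraMap k _ c = (sig p)^[n] y) :
    ∃ c : k, x = algebraMap k _ c := by
  have hdeg : ∀ c : k, (x - algebraMap k _ c).intDegree = 0 := by
    intro c
    obtain ⟨y, hy⟩ := hx ((x - algebraMap k (RatFunc k) c).intDegree.natAbs) c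
    by_contra h0
    set D := (x - algebraMap k (RatFunc k) c).intDegree
    have hD : D = (p : ℤ) ^ D.natAbs * y.intDegree := by
      conv_lhs => rw [show D = _ from congrArg RatFunc.intDegree hy, intDegree_sig_iterate]
    have h1 : p ^ D.natAbs ∣ D.natAbs := by
      refine ⟨y.intDegree.natAbs, ?_⟩
      conv_lhs => rw [hD, Int.natAbs_mul, Int.natAbs_pow, Int.natAbs_natCast]
    have h2 := Nat.le_of_dvd (Int.natAbs_pos.2 h0) h1
    exact absurd h2 (not_le.2 (Nat.lt_pow_self (Fact.out : p.Prime).one_lt))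
  obtain ⟨c, hc⟩ := RatK.exists_value (x := x) (by
    rw [RatK.mem_inftyPlace]
    have := hdeg 0
    rw [map_zero, sub_zero] at this
    omega)
  refine ⟨c, sub_eq_zero.1 (hc.resolve_right fun h => ?_)⟩
  rw [hdeg c] at h
  omega

variable [FrobSch.IsCharP X p] [IsProper f] [Smooth f] [IsIntegral X]
  {Xl : Scheme.{u}} {g : Xl ⟶ Spec (CommRingCat.of (FrobAlg.W2 p k))}
  {i : X ⟶ Xl} {Fl : Xl ⟶ Xl} {h : IsFLift p f g i Fl} {d : ℕ}

theorem exists_sig_iterate (hM : HasUnitMatrix h d) (hd : topologicalKrullDim X = d) (c₀ : Coords f d)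
    (hfin : (baseHom f c₀.U.1).FiniteType) :
    ∀ (n : ℕ) (φ : Γ(X, c₀.U.1) →+* RatFunc k), (∀ c, φ (baseHom f c₀.U.1 c) = algebraMap k _ c) →
      ∀ a, ∃ y, φ a = (sig p)^[n] y := by
  intro n
  induction n with
  | zero => exact fun φ _ a => ⟨φ a, rfl⟩
  | succ n ih =>
    intro φ hφ a
    let ξ := Spec.map (CommRingCat.ofHom φ) ≫ c₀.U.2.fromSpec
    have hp : pt ξ ∈ c₀.U.1 := c₀.U.2.range_fromSpec.le ⟨_, rfl⟩
    have hξ : ξ ≫ f = Spec.map (CommRingCat.ofHom (algebraMap k (RatFunc k))) := by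
      rw [Category.assoc, fromSpec_comp, ← Spec.map_comp]
      exact congrArg Spec.map (CommRingCat.hom_ext (RingHom.ext hφ))
    have hrange : ∀ b, φ b ∈ (sig (k := k) p).range := fun b => by
      obtain ⟨y, hy⟩ := RatK.exists_sig (p := p) (show dd k (φ b) = 0 by
        rw [← gam_fromSpec c₀.U.2 φ hp b]; exact dd_gam_eq_zero hM hd ξ hξ c₀ hp hfin b)
      exact ⟨y, hy⟩
    let e := AlgEquiv.ofInjectiveField (sig (k := k) p)
    let φ' : Γ(X, c₀.U.1) →+* RatFunc k :=
      e.symm.toRingEquiv.toRingHom.comp (φ.codRestrict (sig (k := k) p).range.toSubring hrange)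
    have hφ' : ∀ b, sig p (φ' b) = φ b := fun b =>
      congrArg Subtype.val (e.apply_symm_apply ⟨φ b, hrange b⟩)
    obtain ⟨y, hy⟩ := ih φ' (fun c => (sig (k := k) p).toRingHom.injective (by
      change sig p (φ' _) = sig p _
      rw [hφ', hφ, AlgHom.commutes])) a
    exact ⟨y, by rw [Function.iterate_succ', Function.comp_apply, ← hy, hφ']⟩

/-- A morphism from the projective line is constant. -/
theorem factors (hM : HasUnitMatrix h d) (hd : topologicalKrullDim X = d)
    (u : CohB1.ProjSpace 1 k ⟶ X) (hu : u ≫ f = CohB1.ProjSpace.toSpec 1 k) :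
    ∃ x : Spec (CommRingCat.of k) ⟶ X, x ≫ f = 𝟙 _ ∧ u = CohB1.ProjSpace.toSpec 1 k ≫ x := by
  let P := CohB1.ProjSpace 1 k
  let η : P := genericPoint P
  obtain ⟨U, t, hxU, hs, hb⟩ := exists_coords f d hd (u η)
  let c₀ : Coords f d := ⟨U, t, isBasisS_dSect f U.2 t hb⟩
  -- the point over the rational functions
  let A := MvPolynomial (Groth.L16.ProjSpace.ChartVar 1 (0 : Fin 2)) k
  let v : Groth.L16.ProjSpace.ChartVar 1 (0 : Fin 2) := ⟨1, by decide⟩
  let ρ₀ : A →ₐ[k] Polynomial k := MvPolynomial.aeval fun _ => Polynomial.X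
  have hρ₀ : Function.Injective ρ₀ := by
    haveI : Unique (Groth.L16.ProjSpace.ChartVar 1 (0 : Fin 2)) :=
      ⟨⟨v⟩, fun w => Subtype.ext (Fin.eq_one_of_ne_zero w.1 w.2)⟩
    have : ρ₀ = (MvPolynomial.uniqueAlgEquiv k _).toAlgHom := MvPolynomial.algHom_ext fun w => by
      simp [ρ₀]
    rw [this]
    exact (MvPolynomial.uniqueAlgEquiv k _).injective
  let ρ : A →+* RatFunc k := (algebraMap (Polynomial k) (RatFunc k)).comp ρ₀.toRingHom
  have hρ : Function.Injective ρ := (RatFunc.algebraMap_injective k).comp hρ₀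
  let ξ : Spec (CommRingCat.of (RatFunc k)) ⟶ X :=
    Spec.map (CommRingCat.ofHom ρ) ≫ Groth.L16.ProjSpace.chart 1 k 0 ≫ u
  have hξ : ξ ≫ f = Spec.map (CommRingCat.ofHom (algebraMap k (RatFunc k))) := by
    simp only [ξ, Category.assoc, hu, Groth.L16.ProjSpace.chart_toSpec, ← Spec.map_comp]
    refine congrArg Spec.map (CommRingCat.hom_ext (RingHom.ext fun c => ?_))
    change algebraMap (Polynomial k) (RatFunc k) (ρ₀ (MvPolynomial.C c)) = _
    rw [show MvPolynomial.C c = algebraMap k A c from rfl, AlgHom.commutes, ← IsScalarTower.algebraMap_apply]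
    rfl
  have hη : Groth.L16.ProjSpace.chart 1 k 0 (Spec.map (CommRingCat.ofHom ρ) default) = η := by
    have h0 : Spec.map (CommRingCat.ofHom ρ) default = genericPoint (Spec (CommRingCat.of A)) := by
      rw [genericPoint_eq_bot_of_affine]
      refine PrimeSpectrum.ext ((asIdeal_specMap ρ default).trans ?_)
      exact RingHom.injective_iff_ker_eq_bot ρ |>.1 hρ
    rw [h0, genericPoint_eq_of_isOpenImmersion]
  have hp : pt ξ ∈ U.1 := by
    change u (Groth.L16.ProjSpace.chart 1 k 0 (Spec.map (CommRingCat.ofHom ρ) default)) ∈ U.1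
    rw [hη]; exact hxU
  -- every function at the point is constant
  have hconst : ∀ a, ∃ c : k, gam ξ hp a = algebraMap k _ c := fun a => eq_const (p := p) _ fun n c => by
    obtain ⟨y, hy⟩ := exists_sig_iterate hM hd c₀ (by
      letI := (baseHom f U.1).toAlgebra
      haveI : Algebra.IsStandardSmooth k Γ(X, U.1) := hs
      exact RingHom.finiteType_algebraMap.2 inferInstance) n (gam ξ hp) (gam_base ξ hξ hp)
      (a - baseHom f U.1 c)
    exact ⟨y, by rw [← hy, map_sub, gam_base ξ hξ hp]⟩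
  -- the image point is closed
  haveI : JacobsonSpace X := LocallyOfFiniteType.jacobsonSpace f
  let q := U.2.primeIdealOf ⟨pt ξ, hp⟩
  have hker : q.asIdeal = RingHom.ker (gam ξ hp) := by
    have hpre : Spec.map (CommRingCat.ofHom (gam ξ hp)) ≫ U.2.fromSpec = ξ := by
      have h1 := IsAffineOpen.SpecMap_appLE_fromSpec ξ U.2 (isAffineOpen_top _) (top_le ξ hp)
      rw [IsAffineOpen.fromSpec_top, Scheme.isoSpec_Spec_inv] at h1
      have h2 : Spec.map (CommRingCat.ofHom (gam ξ hp)) =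
          Spec.map (Scheme.ΓSpecIso (CommRingCat.of (RatFunc k))).hom ≫ Spec.map (ξ.appLE U.1 ⊤ (top_le ξ hp)) :=
        Spec.map_comp _ _
      rw [h2, Category.assoc, h1, ← Category.assoc, ← Spec.map_comp, Iso.inv_hom_id, Spec.map_id, Category.id_comp]
    have h3 : U.2.fromSpec q = U.2.fromSpec (Spec.map (CommRingCat.ofHom (gam ξ hp)) default) :=
      (U.2.fromSpec_primeIdealOf ⟨pt ξ, hp⟩).trans (congr($hpre.symm default))
    rw [U.2.fromSpec.isOpenEmbedding.injective h3]
    exact asIdeal_specMap (gam ξ hp) default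
  choose χ₀ hχ₀ using hconst
  let χ : Γ(X, U.1) →+* k :=
    { toFun := χ₀
      map_one' := (algebraMap k (RatFunc k)).injective (by rw [← hχ₀, map_one, map_one])
      map_zero' := (algebraMap k (RatFunc k)).injective (by rw [← hχ₀, map_zero, map_zero])
      map_add' := fun a b => (algebraMap k (RatFunc k)).injective (by rw [← hχ₀, map_add, map_add, ← hχ₀, ← hχ₀])
      map_mul' := fun a b => (algebraMap k (RatFunc k)).injective (by rw [← hχ₀, map_mul, map_mul, ← hχ₀, ← hχ₀]) }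
  have hmax : q.asIdeal.IsMaximal := by
    have : RingHom.ker (gam ξ hp) = RingHom.ker χ := by
      ext a
      rw [RingHom.mem_ker, RingHom.mem_ker, hχ₀]
      exact map_eq_zero (algebraMap k (RatFunc k))
    rw [hker, this]
    exact RingHom.ker_isMaximal_of_surjective χ fun c => ⟨baseHom f U.1 c,
      (algebraMap k (RatFunc k)).injective ((hχ₀ _).symm.trans (gam_base ξ hξ hp c))⟩
  have hclosed : IsClosed ({pt ξ} : Set X) := by
    have hq : IsClosed ({q} : Set (PrimeSpectrum Γ(X, U.1))) :=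
      (PrimeSpectrum.isClosed_singleton_iff_isMaximal q).2 hmax
    have := (Topology.IsOpenEmbedding.preimage_closedPoints U.2.fromSpec.isOpenEmbedding).ge
      (show q ∈ closedPoints (PrimeSpectrum Γ(X, U.1)) from hq)
    have h4 : U.2.fromSpec q = pt ξ := U.2.fromSpec_primeIdealOf ⟨pt ξ, hp⟩
    rw [← h4]
    exact this
  have hall : ∀ z : P, u z = pt ξ := fun z => by
    have hsp : η ⤳ z := (genericPoint_spec P).specializes trivial
    have h5 := hsp.map u.continuous
    rw [show u η = pt ξ from congrArg u hη.symm] at h5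
    exact hclosed.closure_eq.le (h5.mem_closure)
  have htop : ⊤ ≤ u ⁻¹ᵁ U.1 := fun z _ => show u z ∈ U.1 by rw [hall]; exact hp
  let e : k ≃+* Γ(P, ⊤) :=
    RingEquiv.ofBijective (Coh.toGlobal (CohB1.ProjSpace.toSpec 1 k)) Groth.L16.ProjSpace.toGlobal_bijective
  let χ' : Γ(X, U.1) →+* k := e.symm.toRingHom.comp (u.appLE U.1 ⊤ htop).hom
  have hfac : u = CohB1.ProjSpace.toSpec 1 k ≫ Spec.map (CommRingCat.ofHom χ') ≫ U.2.fromSpec := by
    have h6 : u = P.toSpecΓ ≫ Spec.map (u.appLE U.1 ⊤ htop) ≫ U.2.fromSpec := by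
      haveI : Epi (⊤ : P.Opens).ι := (inferInstance : Epi P.topIso.hom)
      rw [← cancel_epi (⊤ : P.Opens).ι, ← Category.assoc,
        ← Scheme.Opens.toSpecΓ_SpecMap_presheaf_map_top (⊤ : P.Opens), Category.assoc,
        ← Spec.map_comp_assoc, Scheme.Hom.appLE_map, ← Category.assoc,
        Scheme.Opens.toSpecΓ_SpecMap_appLE, Category.assoc, IsAffineOpen.toSpecΓ_fromSpec,
        Scheme.Hom.resLE_comp_ι]
    have h7 : CohB1.ProjSpace.toSpec 1 k = P.toSpecΓ ≫ Spec.map (CommRingCat.ofHom e.toRingHom) := by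
      refine ext_to_Spec ?_
      simp
      change _ = (Spec.map (CommRingCat.ofHom e.toRingHom)).appTop ≫ (Scheme.ΓSpecIso Γ(P, ⊤)).hom
      rw [Scheme.ΓSpecIso_naturality]
      exact (Iso.hom_inv_id_assoc (Scheme.ΓSpecIso (CommRingCat.of k)) _).symm
    rw [h7, Category.assoc, ← Spec.map_comp_assoc]
    refine h6.trans (congrArg (fun m => P.toSpecΓ ≫ Spec.map m ≫ U.2.fromSpec) ?_)
    ext a
    exact (e.apply_symm_apply _).symm
  refine ⟨Spec.map (CommRingCat.ofHom χ') ≫ U.2.fromSpec, ?_, hfac⟩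
  rw [Category.assoc, fromSpec_comp, ← Spec.map_comp, ← Spec.map_id]
  refine congrArg Spec.map (CommRingCat.hom_ext (RingHom.ext fun c => ?_))
  refine e.injective ((e.apply_symm_apply _).trans ?_)
  have h8 : f.appLE ⊤ U.1 le_top ≫ u.appLE U.1 ⊤ htop = (u ≫ f).appLE ⊤ ⊤ le_top :=
    Scheme.Hom.appLE_comp_appLE _ _ _ _ _ _ _
  simp only [hu] at h8
  refine (congr($h8 ((Scheme.ΓSpecIso (CommRingCat.of k)).inv c))).trans ?_
  exact congr($((Scheme.Hom.app_eq_appLE (f := CohB1.ProjSpace.toSpec 1 k) (U := ⊤)).symm)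
    ((Scheme.ΓSpecIso (CommRingCat.of k)).inv c))

end Groth.L12.FrobLift
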