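import Groth.Agent.L12.FrobSemi
import Groth.Agent.L08.W2
import Groth.Agent.L20.ThickAffine
import Groth.Agent.L18.Frame
import Mathlib.RingTheory.Spectrum.Prime.Homeomorph
import Mathlib.AlgebraicGeometry.Morphisms.Flat
import Mathlib.FieldTheory.IsAlgClosed.Basic

/-! # A Frobenius lift over `W₂(k)` on affine opens -/

set_option autoImplicit false
set_option backward.isDefEq.respectTransparency false
universe u

open CategoryTheory CategoryTheory.Limits AlgebraicGeometry TopologicalSpace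
open Groth.L18.Frame (ro)

noncomputable section

namespace Groth.L12.FrobLift

variable (p : ℕ) [Fact p.Prime] {k : Type u} [Field k] [CharP k p]

/-- The base thickening. -/
abbrev Rres (k : Type u) [Field k] : Spec (CommRingCat.of k) ⟶ Spec (CommRingCat.of (FrobAlg.W2 p k)) :=
  Spec.map (CommRingCat.ofHom (FrobAlg.res p k))

instance : IsClosedImmersion (Rres p k) :=
  IsClosedImmersion.spec_of_surjective _ (Groth.L08.W2.res_surjective p)

omit [CharP k p] in
theorem surjective_Rres [CharP k p] [PerfectRing k p] : Surjective (Rres p k) := ⟨fun y => by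
  have hker : RingHom.ker (FrobAlg.res p k) ≤ nilradical (FrobAlg.W2 p k) := by
    rw [Groth.L08.W2.ker_res, Ideal.span_le, Set.singleton_subset_iff]
    exact mem_nilradical.2 ⟨2, by rw [pow_two]; exact Groth.L08.W2.p_mul_p p⟩
  exact ((PrimeSpectrum.isHomeomorph_comap _
    (fun x => ⟨1, one_pos, by simpa using Groth.L08.W2.res_surjective p x⟩) hker).surjective) y⟩

variable [IsAlgClosed k] {X : Scheme.{u}} (f : X ⟶ Spec (CommRingCat.of k)) [FrobSch.IsCharP X p]
  {Xl : Scheme.{u}} (g : Xl ⟶ Spec (CommRingCat.of (FrobAlg.W2 p k)))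
  (i : X ⟶ Xl) (Fl : Xl ⟶ Xl)

/-- The hypotheses on a Frobenius lift. -/
structure IsFLift : Prop where
  flat : Flat g
  sq : IsPullback i f g (Rres p k)
  comm : i ≫ Fl = FrobSch.frob X p ≫ i

variable {p f g i Fl} (h : IsFLift p f g i Fl)

include h

theorem isClosedImmersion : IsClosedImmersion i :=
  MorphismProperty.of_isPullback (P := @IsClosedImmersion) h.sq.flip inferInstance

theorem surjective : Function.Surjective i :=
  haveI := surjective_Rres p (k := k)
  (MorphismProperty.of_isPullback (P := @Surjective) h.sq.flip inferInstance : Surjective i).surj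

theorem base_apply (y : Xl) : Fl y = y := by
  obtain ⟨x, rfl⟩ := surjective h y
  have := congrArg (fun m : X ⟶ Xl => m x) h.comm
  simpa using this

theorem preimage_eq (V : Xl.Opens) : Fl ⁻¹ᵁ V = V := by
  ext y
  exact ⟨fun hy => base_apply h y ▸ hy, fun hy => show Fl y ∈ V from (base_apply h y).symm ▸ hy⟩

/-- The open of the lift over an open of `X`. -/
theorem exists_open (U : X.Opens) : ∃ V : Xl.Opens, i ⁻¹ᵁ V = U := by
  haveI := isClosedImmersion h
  obtain ⟨O, hO, hOU⟩ := i.isClosedEmbedding.isInducing.isOpen_iff.1 U.2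
  exact ⟨⟨O, hO⟩, Opens.ext hOU⟩

theorem isAffineOpen (V : Xl.Opens) (hU : IsAffineOpen (i ⁻¹ᵁ V)) : IsAffineOpen V := by
  haveI := isClosedImmersion h
  haveI : IsAffine (i ⁻¹ᵁ V).toScheme := hU
  haveI : IsClosedImmersion (i ∣_ V) := IsZariskiLocalAtTarget.restrict (isClosedImmersion h) V
  refine Groth.L20.ThickAffine.isAffine_of_surjective (i ∣_ V) fun y => ?_
  obtain ⟨x, hx⟩ := surjective h y.1
  have hxV : x ∈ i ⁻¹ᵁ V := by change i x ∈ V; rw [hx]; exact y.2
  refine ⟨⟨x, hxV⟩, Subtype.ext ?_⟩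
  rw [morphismRestrict_base]
  exact hx

/-- The endomorphism of the sections of the lift. -/
def phi (V : Xl.Opens) : Γ(Xl, V) →+* Γ(Xl, V) := (Fl.appLE V V (preimage_eq h V).ge).hom

omit [IsAlgClosed k] in
theorem app_phi [IsAlgClosed k] (V : Xl.Opens) (b : Γ(Xl, V)) : i.app V (phi h V b) = i.app V b ^ p := by
  have e : Fl.appLE V V (preimage_eq h V).ge ≫ i.appLE V (i ⁻¹ᵁ V) le_rfl =
      (i ≫ Fl).appLE V (i ⁻¹ᵁ V) (fun x hx => (preimage_eq h V).ge hx) :=
    Scheme.Hom.appLE_comp_appLE _ _ _ _ _ _ _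
  have e2 : (FrobSch.frob X p ≫ i).appLE V (i ⁻¹ᵁ V) (fun x hx => hx) =
      i.appLE V (i ⁻¹ᵁ V) le_rfl ≫ (FrobSch.frob X p).appLE (i ⁻¹ᵁ V) (i ⁻¹ᵁ V) le_rfl :=
    (Scheme.Hom.appLE_comp_appLE _ _ _ _ _ _ _).symm
  have key : Fl.appLE V V (preimage_eq h V).ge ≫ i.appLE V (i ⁻¹ᵁ V) le_rfl =
      i.appLE V (i ⁻¹ᵁ V) le_rfl ≫ (FrobSch.frob X p).appLE (i ⁻¹ᵁ V) (i ⁻¹ᵁ V) le_rfl := by
    rw [e, ← e2]
    simp only [h.comm]
  simp only [← Scheme.Hom.app_eq_appLE] at key
  refine (congr($key b)).trans ?_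
  exact (congr($((Scheme.Hom.app_eq_appLE (f := FrobSch.frob X p) (U := i ⁻¹ᵁ V)).symm) (i.app V b))).trans
    (FrobSch.frob_app X p _ _)

theorem phi_res {V V' : Xl.Opens} (hle : V' ≤ V) (b : Γ(Xl, V)) : ro hle (phi h V b) = phi h V' (ro hle b) := by
  have e1 : Fl.appLE V V (preimage_eq h V).ge ≫ Xl.presheaf.map (homOfLE hle).op =
      Fl.appLE V V' (hle.trans (preimage_eq h V).ge) := Fl.appLE_map _ _
  have e2 : Xl.presheaf.map (homOfLE hle).op ≫ Fl.appLE V' V' (preimage_eq h V').ge =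
      Fl.appLE V V' (hle.trans (preimage_eq h V).ge) := Fl.map_appLE _ _
  exact congr($(e1.trans e2.symm) b)

theorem isPair (V : Xl.Opens) (hU : IsAffineOpen (i ⁻¹ᵁ V)) :
    FrobSemi.IsPair p (i.app V).hom (phi h V) := by
  haveI := isClosedImmersion h
  haveI := h.flat
  have hV := isAffineOpen h V hU
  have hT := isAffineOpen_top (Spec (CommRingCat.of (FrobAlg.W2 p k)))
  have hT' := isAffineOpen_top (Spec (CommRingCat.of k))
  let γ : Γ(Spec (CommRingCat.of (FrobAlg.W2 p k)), ⊤) →+* Γ(Xl, V) := (g.appLE ⊤ V le_top).hom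
  have hflat : γ.Flat := g.flat_appLE hT hV le_top
  let w2 := (Scheme.ΓSpecIso (CommRingCat.of (FrobAlg.W2 p k))).commRingCatIsoToRingEquiv
  have hpb := Scheme.Hom.isPullback_resLE h.sq.flip (UT := V) (US := ⊤)
    (UX := (⊤ : (Spec (CommRingCat.of k)).Opens)) le_top le_top (UY := (i ⁻¹ᵁ V)) (by simp)
  refine ⟨?_, ?_, ?_, ?_, FrobSch.natCast_eq_zero_app X p _, app_phi h V⟩
  · haveI : IsAffine V.toScheme := hV
    haveI : IsClosedImmersion (i ∣_ V) := IsZariskiLocalAtTarget.restrict (isClosedImmersion h) V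
    exact i.app_surjective V hV
  · intro b hb
    haveI : IsAffine V.toScheme := hV
    haveI : IsAffine (i ⁻¹ᵁ V).toScheme := hU
    haveI : IsAffine (⊤ : (Spec (CommRingCat.of k)).Opens).toScheme := hT'
    haveI : IsAffine (⊤ : (Spec (CommRingCat.of (FrobAlg.W2 p k))).Opens).toScheme := hT
    have hpo : IsPushout ((Rres p k).appLE ⊤ ⊤ le_top) (g.appLE ⊤ V le_top)
        (f.appLE ⊤ (i ⁻¹ᵁ V) le_top) (i.appLE V (i ⁻¹ᵁ V) le_rfl) := by
      refine (isPushout_appTop_of_isPullback hpb).of_iso (Scheme.Opens.topIso _) (Scheme.Opens.topIso _)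
        V.topIso (i ⁻¹ᵁ V).topIso ?_ ?_ ?_ ?_ <;>
      simp only [Scheme.Hom.appTop, Scheme.Hom.resLE_app_top, Category.assoc, Iso.inv_hom_id, Category.comp_id]
    let Q := CommRingCat.of (Γ(Xl, V) ⧸ Ideal.span {(p : Γ(Xl, V))})
    let ρ : Γ(Spec (CommRingCat.of (FrobAlg.W2 p k)), ⊤) →+* Γ(Spec (CommRingCat.of k), ⊤) :=
      ((Rres p k).appLE ⊤ ⊤ le_top).hom
    have hρ : ρ = ((Scheme.ΓSpecIso (CommRingCat.of k)).inv.hom.comp (FrobAlg.res p k)).comp w2.toRingHom := by
      have hn := Scheme.ΓSpecIso_naturality (CommRingCat.ofHom (FrobAlg.res p k))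
      have hn' : (Rres p k).appTop = (Scheme.ΓSpecIso (CommRingCat.of (FrobAlg.W2 p k))).hom ≫
          CommRingCat.ofHom (FrobAlg.res p k) ≫ (Scheme.ΓSpecIso (CommRingCat.of k)).inv := by
        rw [← reassoc_of% hn, Iso.hom_inv_id, Category.comp_id]
      refine Eq.trans ?_ (congrArg CommRingCat.Hom.hom hn')
      exact congrArg CommRingCat.Hom.hom ((Scheme.Hom.app_eq_appLE (f := Rres p k) (U := ⊤)).symm)
    have hρsurj : Function.Surjective ρ := by
      rw [hρ]
      exact ((Scheme.ΓSpecIso (CommRingCat.of k)).commRingCatIsoToRingEquiv.symm.surjective.comp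
        (Groth.L08.W2.res_surjective p)).comp w2.surjective
    have hρker : RingHom.ker ρ ≤ RingHom.ker ((Ideal.Quotient.mk (Ideal.span {(p : Γ(Xl, V))})).comp γ) := by
      intro w hw
      have hw' : FrobAlg.res p k (w2 w) = 0 := by
        refine (Scheme.ΓSpecIso (CommRingCat.of k)).commRingCatIsoToRingEquiv.symm.injective ?_
        rw [map_zero]
        exact (congr($hρ w)).symm.trans (RingHom.mem_ker.1 hw)
      obtain ⟨y, hy⟩ := Groth.L08.W2.exists_eq_p_mul p hw'
      rw [RingHom.mem_ker, RingHom.comp_apply, Ideal.Quotient.eq_zero_iff_mem]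
      rw [← w2.symm_apply_apply w, hy, map_mul, map_natCast, map_mul, map_natCast]
      exact Ideal.mul_mem_right _ _ (Ideal.subset_span rfl)
    let α : Γ(Spec (CommRingCat.of k), ⊤) ⟶ Q :=
      CommRingCat.ofHom (ρ.liftOfSurjective hρsurj ⟨(Ideal.Quotient.mk _).comp γ, hρker⟩)
    have hw : (Rres p k).appLE ⊤ ⊤ le_top ≫ α =
        g.appLE ⊤ V le_top ≫ CommRingCat.ofHom (Ideal.Quotient.mk (Ideal.span {(p : Γ(Xl, V))})) :=
      CommRingCat.hom_ext (RingHom.liftOfRightInverse_comp _ _ _ _)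
    have h1 := congr($(hpo.inr_desc α _ hw) b)
    change hpo.desc α _ hw (i.appLE V (i ⁻¹ᵁ V) le_rfl b) = _ at h1
    have hb' : i.appLE V (i ⁻¹ᵁ V) le_rfl b = 0 :=
      (congr($((Scheme.Hom.app_eq_appLE (f := i) (U := V)).symm) b)).trans hb
    rw [hb', map_zero] at h1
    obtain ⟨c, hc⟩ := Ideal.mem_span_singleton.1 (Ideal.Quotient.eq_zero_iff_mem.1 h1.symm)
    exact ⟨c, hc⟩
  · intro b hb
    letI := (γ.comp w2.symm.toRingHom).toAlgebra
    haveI : Module.Flat (FrobAlg.W2 p k) Γ(Xl, V) :=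
      RingHom.flat_algebraMap_iff.1 (RingHom.Flat.comp (RingHom.Flat.of_bijective w2.symm.bijective) hflat)
    obtain ⟨c, hc⟩ := Groth.L08.W2.torsion_of_flat p (k := k) (M := Γ(Xl, V)) (m := b) (by
      rw [Algebra.smul_def, map_natCast]; exact hb)
    rw [Algebra.smul_def, map_natCast] at hc
    rw [hc, map_mul, map_natCast, FrobSch.natCast_eq_zero_app X p _, zero_mul]
  · have := congrArg (γ.comp w2.symm.toRingHom) (Groth.L08.W2.p_mul_p (R := k) p)
    simpa using this

end Groth.L12.FrobLift
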