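import Groth.Agent.L12.FrobLift.Wedge
import Groth.Agent.L12.FrobLift.Pow
import Groth.Agent.L19.ProjBdl.TensFrame
import Groth.Agent.L19.OmegaSh.ConormalOmega
import Groth.Prelude.Def_ClSub2

/-! # Sections of inverse powers from semilinear endomorphisms -/

set_option autoImplicit false
set_option backward.isDefEq.respectTransparency false
universe u

open CategoryTheory CategoryTheory.Limits AlgebraicGeometry TopologicalSpace Opposite
open Groth.L18.Frame (rs ro rs_rs ro_ro rs_smul ro_self rs_self IsFrame)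
open Groth.L18.GenLoc (tens tens_rs tens_smul_left tens_smul_right)

noncomputable section

namespace Groth.L12.FrobLift

variable {X : Scheme.{u}} {W : X.Modules}

/-- The module `N` is inverse to `W ^ m`. -/
theorem exists_global {q m : ℕ} (hqm : q = m + 1) {z : ∀ U : X.affineOpens, Γ(W, U.1) → Γ(W, U.1)}
    (hz : IsSemi W q z) (hfr : ∀ x : X, ∃ (U : X.affineOpens) (e : Γ(W, U.1)), x ∈ U.1 ∧ IsFrame W U.1 e)
    {N : X.Modules} (β : CohB1.tensorMod N (CohB1.tensorPow W m) ≅ Coh.structureModule X) :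
    ∃ s : Γ(N, ⊤), ∀ (U : X.affineOpens) (e : Γ(W, U.1)), IsFrame W U.1 e → ∀ c : Γ(X, U.1), z U e = c • e →
      β.hom.app U.1 (tens N (CohB1.tensorPow W m) U.1 (rs N le_top s) (pf e m)) = c := by
  let P := CohB1.tensorPow W m
  let ev : ∀ (V : X.Opens), Γ(N, V) → Γ(P, V) → Γ(X, V) := fun V w e => β.hom.app V (tens N P V w e)
  have ev_smul : ∀ (V : X.Opens) (w : Γ(N, V)) (a : Γ(X, V)) (e : Γ(P, V)), ev V w (a • e) = a * ev V w e :=
    fun V w a e => by
      simp only [ev]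
      rw [tens_smul_right, Scheme.Modules.Hom.app_smul]
      rfl
  have ev_rs : ∀ {V V' : X.Opens} (hle : V' ≤ V) (w : Γ(N, V)) (e : Γ(P, V)),
      ro hle (ev V w e) = ev V' (rs N hle w) (rs P hle e) := fun hle w e => by
    simp only [ev]
    rw [← tens_rs]
    exact (congr($((Scheme.Modules.Hom.mapPresheaf β.hom).naturality (homOfLE hle).op) (tens N P _ w e))).symm
  have ev_bij : ∀ {U : X.affineOpens} {e : Γ(W, U.1)}, IsFrame W U.1 e → ∀ {V : X.Opens} (hle : V ≤ U.1),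
      Function.Bijective fun w : Γ(N, V) => ev V w (rs P hle (pf e m)) := fun he V hle =>
    (ConcreteCategory.bijective_of_isIso (β.hom.app V)).comp
      (Groth.L19.ProjBdl.bijective_tens_frame (isFrame_pf he m) hle)
  let ι := Σ U : X.affineOpens, { e : Γ(W, U.1) // IsFrame W U.1 e }
  have hc : ∀ a : ι, ∃ c : Γ(X, a.1.1), z a.1 a.2.1 = c • a.2.1 := fun a => by
    obtain ⟨c, hc⟩ := a.2.2.exists_coeff le_rfl (z a.1 a.2.1)
    exact ⟨c, by simpa [rs_self] using hc.symm⟩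
  choose c hc using hc
  have ht : ∀ a : ι, ∃ t : Γ(N, a.1.1), ev a.1.1 t (pf a.2.1 m) = c a := fun a => by
    obtain ⟨t, ht⟩ := (ev_bij a.2.2 (le_refl a.1.1)).2 (c a)
    exact ⟨t, by simpa [rs_self] using ht⟩
  choose t ht using ht
  -- restrictions of two local sections agree on affine opens
  have hagree : ∀ (a b : ι) (V : X.affineOpens) (ha : V.1 ≤ a.1.1) (hb : V.1 ≤ b.1.1),
      rs N ha (t a) = rs N hb (t b) := by
    intro a b V ha hb
    have fa := a.2.2.mono ha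
    have fb := b.2.2.mono hb
    obtain ⟨u, hu⟩ := fa.exists_coeff le_rfl (rs W hb b.2.1)
    rw [rs_self] at hu
    have huu : IsUnit u := Groth.L18.Frame.isUnit_of_isFrame fa (by rw [hu]; exact fb)
    have za : z V (rs W ha a.2.1) = ro ha (c a) • rs W ha a.2.1 := by
      rw [← hz.nat, hc, rs_smul]
    have zb : z V (rs W hb b.2.1) = ro hb (c b) • rs W hb b.2.1 := by
      rw [← hz.nat, hc, rs_smul]
    rw [← hu, hz.map_smul, za, ← mul_smul, ← mul_smul] at zb
    have hzz : u ^ q * ro ha (c a) = ro hb (c b) * u := by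
      refine fa.inj le_rfl ?_
      simpa [rs_self] using zb
    have hcm : u ^ m * ro ha (c a) = ro hb (c b) := by
      refine huu.mul_right_cancel ?_
      rw [← hzz, hqm, pow_succ]
      ring
    refine (ev_bij fb (le_refl V.1)).1 ?_
    simp only [rs_self]
    have ea : ro ha (c a) = ev V.1 (rs N ha (t a)) (pf (rs W ha a.2.1) m) := by
      rw [← ht a, ev_rs, pf_rs]
    have eb : ro hb (c b) = ev V.1 (rs N hb (t b)) (pf (rs W hb b.2.1) m) := by
      rw [← ht b, ev_rs, pf_rs]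
    rw [← eb, ← hu, pf_smul, ev_smul, ← ea, hcm]
  obtain ⟨s, hs, -⟩ := Groth.L19.OmegaSh.existsUnique_glue_opens N (U := ⊤) (fun a : ι => a.1.1)
    (fun _ => le_top) (fun x _ => by
      obtain ⟨U, e, hx, he⟩ := hfr x
      exact ⟨⟨U, e, he⟩, hx⟩) t (fun a b => by
      have hP : ∀ (x : X) (O : X.Opens), x ∈ O → ∃ V : X.affineOpens, True ∧ x ∈ V.1 ∧ V.1 ≤ O := fun x O hx => by
        obtain ⟨_, ⟨V, hV, rfl⟩, hxV, hVO⟩ := X.isBasis_affineOpens.exists_subset_of_mem_open hx O.2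
        exact ⟨⟨V, hV⟩, trivial, hxV, hVO⟩
      obtain ⟨w, -, huniq⟩ := Groth.L19.OmegaSh.existsUnique_glue N (fun _ => True) hP (a.1.1 ⊓ b.1.1)
        (fun V _ hV => rs N (hV.trans inf_le_left) (t a)) (fun V V' _ _ hZ hZ' hh => rs_rs _ _ _ _)
      refine (huniq _ fun V _ hV => rs_rs _ _ _ _).trans (huniq _ fun V _ hV => ?_).symm
      rw [rs_rs]
      exact (hagree a b V (hV.trans inf_le_left) (hV.trans inf_le_right)).symm)
  refine ⟨s, fun U e he c' hc' => ?_⟩
  have h1 := hs ⟨U, e, he⟩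
  rw [h1]
  refine (ht ⟨U, e, he⟩).trans (he.inj le_rfl ?_)
  simpa [rs_self] using (hc ⟨U, e, he⟩).symm.trans hc'

theorem nontrivial_global {q m : ℕ} (hqm : q = m + 1) {z : ∀ U : X.affineOpens, Γ(W, U.1) → Γ(W, U.1)}
    (hz : IsSemi W q z) (hfr : ∀ x : X, ∃ (U : X.affineOpens) (e : Γ(W, U.1)), x ∈ U.1 ∧ IsFrame W U.1 e)
    (hne : ∃ (U : X.affineOpens) (e : Γ(W, U.1)) (c : Γ(X, U.1)), IsFrame W U.1 e ∧ z U e = c • e ∧ c ≠ 0)
    {N : X.Modules} (β : CohB1.tensorMod N (CohB1.tensorPow W m) ≅ Coh.structureModule X) :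
    Nontrivial Γ(N, ⊤) := by
  obtain ⟨s, hs⟩ := exists_global hqm hz hfr β
  obtain ⟨U, e, c, he, hc, hc0⟩ := hne
  refine ⟨⟨s, 0, fun h0 => hc0 ?_⟩⟩
  rw [← hs U e he c hc, h0, show rs N le_top (0 : Γ(N, ⊤)) = 0 from map_zero _,
    Groth.L19.ProjBdl.tens_zero_left]
  exact map_zero _

end Groth.L12.FrobLift
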