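import Groth.Agent.L12.FrobLift.Zeta
import Groth.Agent.L12.FrobLift.Chart

/-! # The semilinear endomorphism of the canonical module -/

set_option autoImplicit false
set_option backward.isDefEq.respectTransparency false
universe u

open CategoryTheory CategoryTheory.Limits AlgebraicGeometry TopologicalSpace Opposite
open Groth.L18.Frame (rs ro rs_rs ro_ro rs_smul ro_self rs_self IsFrame)
open OmegaSh (dSect)
open Groth.L22.CurveDeg.Det (IsBasisS wedge wedge_comb rs_wedge isFrame_wedge bijective_smul_wedge')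

noncomputable section

namespace Groth.L12.FrobLift

variable {p : ℕ} [Fact p.Prime] {k : Type u} [Field k] [CharP k p] [IsAlgClosed k]
  {X : Scheme.{u}} {f : X ⟶ Spec (CommRingCat.of k)} [QuasiSeparated f] [FrobSch.IsCharP X p]
  {Xl : Scheme.{u}} {g : Xl ⟶ Spec (CommRingCat.of (FrobAlg.W2 p k))}
  {i : X ⟶ Xl} {Fl : Xl ⟶ Xl}

/-- An abstract semilinear natural endomorphism of `W` induced by `zeta`. -/
theorem exists_zetaW (h : IsFLift p f g i Fl) (d : ℕ) (W : X.Modules)
    (φ : ∀ U : X.affineOpens,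
      (W.val.obj (op U.1)) ≃ₗ[Γ(X, U.1)] ↥(⋀[Γ(X, U.1)]^d ((Omega.sheaf f).val.obj (op U.1))))
    (hφ : ∀ (U V : X.affineOpens) (hle : V.1 ≤ U.1) (e : Fin d → (Omega.sheaf f).val.obj (op U.1)),
      W.val.map (homOfLE hle).op ((φ U).symm (exteriorPower.ιMulti _ d e)) =
        (φ V).symm (exteriorPower.ιMulti _ d (fun j => (Omega.sheaf f).val.map (homOfLE hle).op (e j)))) :
    ∃ zW : ∀ U : X.affineOpens, Γ(W, U.1) → Γ(W, U.1),
      (∀ U (a : Γ(X, U.1)) s, zW U (a • s) = a ^ p • zW U s) ∧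
      (∀ U U' (hle : U'.1 ≤ U.1) s, rs W hle (zW U s) = zW U' (rs W hle s)) ∧
      (∀ U e, zW U (wedge φ U e) = wedge φ U fun j => zeta h U (e j)) := by
  let zl : ∀ U : X.affineOpens, ((Omega.sheaf f).val.obj (op U.1))
      →ₛₗ[FrobSch.powHom p Γ(X, U.1) (FrobSch.natCast_eq_zero_app X p U.1)]
        ((Omega.sheaf f).val.obj (op U.1)) := fun U =>
    { toFun := zeta h U
      map_add' := (isZeta_zeta h U).map_add
      map_smul' := (isZeta_zeta h U).map_smul }
  choose Z hZ using fun U : X.affineOpens => FrobSemi.exists_wedgeMap d (zl U)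
  let zW : ∀ U : X.affineOpens, Γ(W, U.1) → Γ(W, U.1) := fun U s => (φ U).symm (Z U (φ U s))
  have hw : ∀ U e, zW U (wedge φ U e) = wedge φ U fun j => zeta h U (e j) := fun U e => by
    change (φ U).symm (Z U (φ U ((φ U).symm _))) = _
    rw [LinearEquiv.apply_symm_apply, hZ]
    rfl
  have hsmul : ∀ U (a : Γ(X, U.1)) s, zW U (a • s) = a ^ p • zW U s := fun U a s => by
    change (φ U).symm (Z U (φ U (a • s))) = _
    rw [show φ U (a • s) = a • φ U s from (φ U).map_smul a s, LinearMap.map_smulₛₗ]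
    exact (φ U).symm.map_smul _ _
  refine ⟨zW, hsmul, fun U U' hle s => ?_, hw⟩
  have hrd : rs W hle (zW U s) = zW U' (rs W hle s) := by
    obtain ⟨x, rfl⟩ := (φ U).symm.surjective s
    have hx : x ∈ Submodule.span Γ(X, U.1) (Set.range (exteriorPower.ιMulti Γ(X, U.1) d
        (M := (Omega.sheaf f).val.obj (op U.1)))) := by
      rw [exteriorPower.ιMulti_span]; trivial
    suffices hs : ∀ a : Γ(X, U.1),
        rs W hle (zW U ((φ U).symm (a • x))) = zW U' (rs W hle ((φ U).symm (a • x))) by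
      simpa using hs 1
    induction hx using Submodule.span_induction with
    | mem y hy =>
      obtain ⟨e, rfl⟩ := hy
      intro a
      rw [show (φ U).symm (a • exteriorPower.ιMulti Γ(X, U.1) d e) = a • wedge φ U e from (φ U).symm.map_smul _ _,
        hsmul, rs_smul, rs_smul, hsmul, hw, rs_wedge φ hφ U U' hle, rs_wedge φ hφ U U' hle, hw]
      simp only [zeta_rs h U U' hle]
      rw [ro, map_pow]
    | zero =>
      intro a
      rw [smul_zero, map_zero]
      have h0 : ∀ V : X.affineOpens, zW V 0 = 0 := fun V => by simp [zW]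
      rw [h0, show rs W hle (0 : Γ(W, U.1)) = 0 from map_zero _, h0]
    | add y z _ _ hy hz =>
      intro a
      have hadd : ∀ (V : X.affineOpens) (s t : Γ(W, V.1)), zW V (s + t) = zW V s + zW V t := fun V s t => by
        change (φ V).symm (Z V (φ V (s + t))) = _
        rw [show φ V (s + t) = φ V s + φ V t from map_add _ _ _, map_add]
        exact map_add _ _ _
      rw [smul_add, map_add, hadd, show rs W hle (_ + _) = _ from map_add _ _ _]
      change rs W hle _ + rs W hle _ = _
      rw [hy a, hz a, ← hadd]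
      exact congrArg (zW U') (map_add _ _ _).symm
    | smul c y _ hy =>
      intro a
      rw [← mul_smul]
      exact hy (a * c)
  exact hrd

variable (d : ℕ) (W : X.Modules)

/-- Natural semilinear endomorphisms of a module on affine opens. -/
structure IsSemi (q : ℕ) (z : ∀ U : X.affineOpens, Γ(W, U.1) → Γ(W, U.1)) : Prop where
  map_smul : ∀ U (a : Γ(X, U.1)) s, z U (a • s) = a ^ q • z U s
  nat : ∀ U U' (hle : U'.1 ≤ U.1) s, rs W hle (z U s) = z U' (rs W hle s)

omit [Fact p.Prime] [FrobSch.IsCharP X p] in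
theorem IsSemi.iterate {z : ∀ U : X.affineOpens, Γ(W, U.1) → Γ(W, U.1)} (hz : IsSemi W p z) :
    ∀ n : ℕ, IsSemi W (p ^ n) fun U => (z U)^[n]
  | 0 => ⟨fun U a s => by simp, fun U U' hle s => by simp⟩
  | n + 1 => by
    have ih := IsSemi.iterate hz n
    refine ⟨fun U a s => ?_, fun U U' hle s => ?_⟩
    · simp only [Function.iterate_succ', Function.comp_apply]
      rw [ih.map_smul, hz.map_smul, ← pow_mul, pow_succ]
    · simp only [Function.iterate_succ', Function.comp_apply]
      rw [hz.nat, ih.nat]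

/-- A Frobenius lift gives an injective natural semilinear endomorphism of the canonical module. -/
theorem exists_semi_frame [Smooth f] [IsIntegral X] (h : IsFLift p f g i Fl) (hd : topologicalKrullDim X = d)
    (hW : ExtPow.IsExtPow d (Omega.sheaf f) W) (n : ℕ) :
    ∃ z : ∀ U : X.affineOpens, Γ(W, U.1) → Γ(W, U.1), IsSemi W (p ^ n) z ∧
      (∀ x : X, ∃ (U : X.affineOpens) (e : Γ(W, U.1)), x ∈ U.1 ∧ IsFrame W U.1 e) ∧
      ∃ (U : X.affineOpens) (e : Γ(W, U.1)) (c : Γ(X, U.1)), IsFrame W U.1 e ∧ z U e = c • e ∧ c ≠ 0 := by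
  obtain ⟨φ, hφ⟩ := hW
  obtain ⟨zW, h1, h2, h3⟩ := exists_zetaW h d W φ hφ
  have hz : IsSemi W p zW := ⟨h1, h2⟩
  refine ⟨fun U => (zW U)^[n], hz.iterate W n, fun x => ?_, ?_⟩
  · obtain ⟨U, t, hx, -, ht⟩ := exists_coords f d hd x
    exact ⟨U, _, hx, isFrame_wedge φ hφ U _ (isBasisS_dSect f U.2 t ht)⟩
  obtain ⟨U, t, hx, hs, b, hb⟩ := exists_coords f d hd (genericPoint X)
  haveI : Nonempty U.1 := ⟨⟨_, hx⟩⟩
  have hB := isBasisS_dSect f U.2 t ⟨b, hb⟩
  have he := isFrame_wedge φ hφ U _ hB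
  obtain ⟨c, hc⟩ := he.exists_coeff le_rfl (zW U (wedge φ U fun j => dSect f U.1 (t j)))
  have hc' : zW U (wedge φ U fun j => dSect f U.1 (t j)) = c • wedge φ U fun j => dSect f U.1 (t j) := by
    simpa [rs_self] using hc.symm
  have hc0 : c ≠ 0 := by
    letI := (baseHom f U.1).toAlgebra
    haveI : Algebra.IsStandardSmooth k Γ(X, U.1) := hs
    obtain ⟨V, hV⟩ := exists_open h U.1
    have hp := isPair h V (hV ▸ U.2)
    obtain ⟨ek, hek⟩ := exists_kEquiv f U.2
    have hlift : ∀ j, ∃ bj : Γ(Xl, V), red i hV.ge bj = t j := fun j => by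
      obtain ⟨bj, hbj⟩ := hp.surj (ro hV.le (t j))
      refine ⟨bj, ?_⟩
      refine (ro_red (le_refl (i ⁻¹ᵁ V)) hV.ge bj).symm.trans ?_
      change ro hV.ge (i.appLE V (i ⁻¹ᵁ V) le_rfl bj) = t j
      rw [← Scheme.Hom.app_eq_appLE]
      exact (congrArg (ro hV.ge) hbj).trans ((ro_ro _ _ _).trans (ro_self _ _))
    choose T hT using hlift
    choose F hF using fun j => hp.exists_F (T j)
    let S : Matrix (Fin d) (Fin d) Γ(X, U.1) := Matrix.of fun i' j => (if i' = j then t i' ^ (p - 1) else 0) +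
      b.coord j (KaehlerDifferential.D k Γ(X, U.1) (red i hV.ge (F i')))
    have hrow : ∀ i', zeta h U (dSect f U.1 (t i')) = ∑ j, S i' j • dSect f U.1 (t j) := by
      intro i'
      have hz' := (isZeta_zeta h U).map_d V hV.ge (T i') (F i') (hF i')
      rw [hT] at hz'
      rw [hz', ← hek (red i hV.ge (F i'))]
      conv_lhs => rw [← b.sum_repr (KaehlerDifferential.D k Γ(X, U.1) (red i hV.ge (F i'))), map_sum]
      simp only [S, Matrix.of_apply, add_smul, Finset.sum_add_distrib, ite_smul, zero_smul,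
        Finset.sum_ite_eq, Finset.mem_univ, if_true, map_smul, hb, hek, Module.Basis.coord_apply]
    have hdet : c = S.det := by
      refine (bijective_smul_wedge' φ U _ hB).1 ?_
      change c • wedge φ U _ = S.det • wedge φ U _
      rw [← hc', h3, ← wedge_comb]
      exact congrArg _ (funext hrow)
    rw [hdet]
    exact FrobJac.det_ne_zero p t b hb fun i' => red i hV.ge (F i')
  have hiter : ∀ m : ℕ, ∃ c' : Γ(X, U.1), c' ≠ 0 ∧
      (zW U)^[m] (wedge φ U fun j => dSect f U.1 (t j)) = c' • wedge φ U fun j => dSect f U.1 (t j) := by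
    intro m
    induction m with
    | zero => exact ⟨1, one_ne_zero, by simp⟩
    | succ m ih =>
      obtain ⟨c', hc1, hc2⟩ := ih
      exact ⟨c' ^ p * c, mul_ne_zero (pow_ne_zero _ hc1) hc0, by
        rw [Function.iterate_succ', Function.comp_apply, hc2, hz.map_smul, hc', mul_smul]⟩
  obtain ⟨c', hc1, hc2⟩ := hiter n
  exact ⟨U, _, c', he, hc2, hc1⟩

end Groth.L12.FrobLift
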