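import Groth.Agent.L12.FrobLift.Pair
import Groth.Agent.L19.OmegaSh.OmAff
import Mathlib.FieldTheory.Perfect

/-! # The semilinear endomorphism of differentials attached to a Frobenius lift -/

set_option autoImplicit false
set_option backward.isDefEq.respectTransparency false
universe u

open CategoryTheory CategoryTheory.Limits AlgebraicGeometry TopologicalSpace
open Groth.L18.Frame (rs ro rs_rs ro_ro rs_smul ro_self rs_self)
open OmegaSh (dSect)

noncomputable section

namespace Groth.L12.FrobLift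

variable {p : ℕ} [Fact p.Prime] {k : Type u} [Field k] [CharP k p] [IsAlgClosed k]
  {X : Scheme.{u}} {f : X ⟶ Spec (CommRingCat.of k)} [QuasiSeparated f] [FrobSch.IsCharP X p]
  {Xl : Scheme.{u}} {g : Xl ⟶ Spec (CommRingCat.of (FrobAlg.W2 p k))}
  {i : X ⟶ Xl} {Fl : Xl ⟶ Xl}

/-- Reduction of a section of the lift. -/
def red (i : X ⟶ Xl) {V : Xl.Opens} {U : X.Opens} (e : U ≤ i ⁻¹ᵁ V) : Γ(Xl, V) →+* Γ(X, U) :=
  (i.appLE V U e).hom

omit [QuasiSeparated f] [FrobSch.IsCharP X p] in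
theorem ro_red {V : Xl.Opens} {U U' : X.Opens} (e : U ≤ i ⁻¹ᵁ V) (hle : U' ≤ U) (b : Γ(Xl, V)) :
    ro hle (red i e b) = red i (hle.trans e) b :=
  congr($(i.appLE_map e (homOfLE hle).op) b)

omit [QuasiSeparated f] [FrobSch.IsCharP X p] in
theorem red_ro {V V' : Xl.Opens} {U : X.Opens} (hle : V' ≤ V) (e : U ≤ i ⁻¹ᵁ V') (b : Γ(Xl, V)) :
    red i e (ro hle b) = red i (e.trans fun _ hx => hle hx) b :=
  congr($(i.map_appLE e (homOfLE hle).op) b)

variable (f) in
/-- The characterisation of the divided differential of the Frobenius lift on an open. -/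
structure IsZeta (h : IsFLift p f g i Fl) (U : X.Opens) (z : Γ(Omega.sheaf f, U) → Γ(Omega.sheaf f, U)) : Prop where
  map_add : ∀ x y, z (x + y) = z x + z y
  map_smul : ∀ (a : Γ(X, U)) x, z (a • x) = a ^ p • z x
  map_d : ∀ (V : Xl.Opens) (e : U ≤ i ⁻¹ᵁ V) (b F : Γ(Xl, V)), phi h V b = b ^ p + (p : Γ(Xl, V)) * F →
    z (dSect f U (red i e b)) =
      red i e b ^ (p - 1) • dSect f U (red i e b) + dSect f U (red i e F)

variable (h : IsFLift p f g i Fl)

omit [IsAlgClosed k] in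
theorem perfect_base [IsAlgClosed k] (r : Γ(Spec (CommRingCat.of k), ⊤)) : ∃ s, s ^ p = r := by
  let e := (Scheme.ΓSpecIso (CommRingCat.of k)).commRingCatIsoToRingEquiv
  obtain ⟨s, hs⟩ := IsAlgClosed.exists_pow_nat_eq (e r) (Fact.out : p.Prime).pos
  exact ⟨e.symm s, by rw [← map_pow, hs, e.symm_apply_apply]⟩

omit [IsAlgClosed k] [FrobSch.IsCharP X p] [CharP k p] [Fact p.Prime] in
/-- Induction on differentials over an affine open. -/
theorem sect_induction {U : X.Opens} (hU : IsAffineOpen U) (P : Γ(Omega.sheaf f, U) → Prop)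
    (h0 : P 0) (hadd : ∀ x y, P x → P y → P (x + y))
    (hd : ∀ (a b : Γ(X, U)), P (a • dSect f U b)) (x : Γ(Omega.sheaf f, U)) : P x := by
  have hV := isAffineOpen_top (Spec (CommRingCat.of k))
  letI : Algebra Γ(Spec (CommRingCat.of k), ⊤) Γ(X, U) := (f.appLE ⊤ U le_top).hom.toAlgebra
  haveI := Groth.L19.OmegaSh.isIso_toSect f ⟨U, hU⟩ ⟨⊤, hV⟩ le_top
  obtain ⟨y, rfl⟩ := (ConcreteCategory.bijective_of_isIso (OmAff.toSect f ⊤ U le_top)).2 x
  have hy : y ∈ Submodule.span Γ(X, U)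
      (Set.range (KaehlerDifferential.D Γ(Spec (CommRingCat.of k), ⊤) Γ(X, U))) := by
    rw [KaehlerDifferential.span_range_derivation]; trivial
  suffices hs : ∀ a : Γ(X, U), P (a • (OmAff.toSect f ⊤ U le_top).hom y) by simpa using hs 1
  induction hy using Submodule.span_induction with
  | mem z hz =>
    obtain ⟨b, rfl⟩ := hz
    intro a
    exact (congrArg (fun w => P (a • w)) (OmAff.toSect_d f ⊤ U le_top b)).mpr (hd a b)
  | zero => intro a; rw [map_zero, smul_zero]; exact h0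
  | add y z _ _ hy hz => intro a; rw [map_add, smul_add]; exact hadd _ _ (hy a) (hz a)
  | smul c y _ hy =>
    intro a
    rw [LinearMap.map_smul, ← mul_smul]
    exact hy (a * c)

include h

theorem exists_zeta {U : X.Opens} (hU : IsAffineOpen U) : ∃ z, IsZeta f h U z := by
  obtain ⟨V₀, rfl⟩ := exists_open h U
  have hV := isAffineOpen_top (Spec (CommRingCat.of k))
  letI : Algebra Γ(Spec (CommRingCat.of k), ⊤) Γ(X, i ⁻¹ᵁ V₀) :=
    (f.appLE ⊤ (i ⁻¹ᵁ V₀) le_top).hom.toAlgebra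
  haveI := Groth.L19.OmegaSh.isIso_toSect f ⟨i ⁻¹ᵁ V₀, hU⟩ ⟨⊤, hV⟩ le_top
  let e := (asIso (OmAff.toSect f ⊤ (i ⁻¹ᵁ V₀) le_top)).toLinearEquiv
  let D : Γ(X, i ⁻¹ᵁ V₀) →+ Γ(Omega.sheaf f, i ⁻¹ᵁ V₀) :=
    AddMonoidHom.mk' (fun a => dSect f _ a) (OmegaSh.dSect_add f _)
  have hp := isPair h V₀ hU
  have hD : ∀ a b, D (a * b) = a • D b + b • D a := OmegaSh.dSect_mul f _
  obtain ⟨z, hz⟩ := FrobSemi.exists_semi hp D hD (R := Γ(Spec (CommRingCat.of k), ⊤)) perfect_base
  refine ⟨fun x => z (e.symm x), fun x y => by simp, fun a x => ?_, fun V hVle b F hF => ?_⟩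
  · rw [map_smul, LinearMap.map_smulₛₗ]
    rfl
  · have hle : V₀ ≤ V := fun y hy => by
      obtain ⟨x, rfl⟩ := surjective h y
      exact hVle hy
    have hF' : phi h V₀ (ro hle b) = ro hle b ^ p + (p : Γ(Xl, V₀)) * ro hle F := by
      rw [← phi_res h hle, hF]
      simp [ro]
    have hred : ∀ c : Γ(Xl, V), red i hVle c = i.app V₀ (ro hle c) := fun c =>
      (red_ro hle (le_refl _) c).symm.trans
        (congr($((Scheme.Hom.app_eq_appLE (f := i) (U := V₀)).symm) (ro hle c)))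
    have he : e.symm (dSect f _ (red i hVle b)) =
        KaehlerDifferential.D Γ(Spec (CommRingCat.of k), ⊤) Γ(X, i ⁻¹ᵁ V₀) (red i hVle b) :=
      e.injective ((e.apply_symm_apply _).trans (OmAff.toSect_d f ⊤ _ le_top _).symm)
    change z (e.symm _) = _
    rw [he, hz, hred, hred, FrobSemi.dlt_eq hp D hD _ _ hF']
    rfl

theorem IsZeta.unique {U : X.Opens} (hU : IsAffineOpen U) {z z' : Γ(Omega.sheaf f, U) → Γ(Omega.sheaf f, U)}
    (hz : IsZeta f h U z) (hz' : IsZeta f h U z') : z = z' := by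
  obtain ⟨V₀, rfl⟩ := exists_open h U
  have hp := isPair h V₀ hU
  funext x
  refine sect_induction hU (fun x => z x = z' x) ?_ (fun x y hx hy => by rw [hz.map_add, hz'.map_add, hx, hy])
    (fun a c => ?_) x
  · have h1 := hz.map_add 0 0
    have h2 := hz'.map_add 0 0
    rw [add_zero] at h1 h2
    rw [left_eq_add.1 h1, left_eq_add.1 h2]
  · obtain ⟨b, rfl⟩ := hp.surj c
    obtain ⟨F, hF⟩ := hp.exists_F b
    have hb : red i (le_refl (i ⁻¹ᵁ V₀)) b = i.app V₀ b :=
      congr($((Scheme.Hom.app_eq_appLE (f := i) (U := V₀)).symm) b)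
    rw [hz.map_smul, hz'.map_smul, ← hb, hz.map_d V₀ le_rfl b F hF, hz'.map_d V₀ le_rfl b F hF]

/-- The divided differential of the Frobenius lift. -/
def zeta (U : X.affineOpens) : Γ(Omega.sheaf f, U.1) → Γ(Omega.sheaf f, U.1) :=
  (exists_zeta h U.2).choose

theorem isZeta_zeta (U : X.affineOpens) : IsZeta f h U.1 (zeta h U) := (exists_zeta h U.2).choose_spec

theorem zeta_zero (U : X.affineOpens) : zeta h U 0 = 0 := by
  have h1 := (isZeta_zeta h U).map_add 0 0
  rw [add_zero] at h1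
  exact left_eq_add.1 h1

theorem zeta_rs (U U' : X.affineOpens) (hle : U'.1 ≤ U.1) (x : Γ(Omega.sheaf f, U.1)) :
    rs (Omega.sheaf f) hle (zeta h U x) = zeta h U' (rs (Omega.sheaf f) hle x) := by
  obtain ⟨V, hVU⟩ := exists_open h U.1
  have hz := isZeta_zeta h U
  have hz' := isZeta_zeta h U'
  refine sect_induction U.2
    (fun x => rs (Omega.sheaf f) hle (zeta h U x) = zeta h U' (rs (Omega.sheaf f) hle x)) ?_ ?_ (fun a c => ?_) x
  · rw [zeta_zero, show rs (Omega.sheaf f) hle (0 : Γ(Omega.sheaf f, U.1)) = 0 from map_zero _, zeta_zero]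
  · intro x y hx hy
    rw [hz.map_add, show rs (Omega.sheaf f) hle (zeta h U x + zeta h U y) = _ from map_add _ _ _,
      show rs (Omega.sheaf f) hle (x + y) = _ from map_add _ _ _, hz'.map_add]
    exact congrArg₂ (· + ·) hx hy
  · have hp := isPair h V (hVU ▸ U.2)
    obtain ⟨b, hb⟩ : ∃ b, red i hVU.ge b = c := by
      obtain ⟨b, hb⟩ := hp.surj (ro hVU.le c)
      refine ⟨b, ?_⟩
      have := congr($((i.appLE_map (le_refl (i ⁻¹ᵁ V)) (homOfLE hVU.ge).op).symm) b)
      refine this.trans ?_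
      change ro hVU.ge (i.appLE V (i ⁻¹ᵁ V) le_rfl b) = c
      rw [← Scheme.Hom.app_eq_appLE]
      exact (congrArg (ro hVU.ge) hb).trans ((ro_ro _ _ _).trans (ro_self _ _))
    subst hb
    obtain ⟨F, hF⟩ := hp.exists_F b
    have hd : ∀ c : Γ(X, U.1), rs (Omega.sheaf f) hle (dSect f U.1 c) = dSect f U'.1 (ro hle c) := fun c =>
      (OmegaSh.dSect_map f hle c).symm
    rw [hz.map_smul, rs_smul, rs_smul, hz'.map_smul, hz.map_d V hVU.ge b F hF,
      show rs (Omega.sheaf f) hle (_ + _) = _ from map_add _ _ _]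
    change _ • (rs (Omega.sheaf f) hle _ + rs (Omega.sheaf f) hle _) = _
    rw [rs_smul, hd, hd, ro_red, ro_red, hz'.map_d V (hle.trans hVU.ge) b F hF]
    simp only [ro, map_pow]
    congr 2
    simp only [← ro_red hVU.ge hle]

end Groth.L12.FrobLift
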